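import Cfsg.Agent.Lib.Invol.J3Type.LTwoSixteen.Relation
import Cfsg.Agent.Lib.Classical.SLGroup
import Cfsg.Agent.Lib.Fus.PSLTwo
import Cfsg.Agent.Lib.Fus.CTSimpleLinear
import Cfsg.Agent.S0338
import Cfsg.Agent.S0340

/-!
# The subgroup `SL(2, 16) : 2`
-/

set_option autoImplicit false
set_option linter.unusedSectionVars false
set_option linter.style.haveILetI false

namespace Cfsg.Agent.Invol.J3Type.LTwoSixteen

open Cfsg Cfsg.Agent.Invol.HJ

universe u

variable {G : Type u} [Group G]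

/-- A rank one pair: `R` regular under `⟨h⟩`, `w` inverting `h`, and one braid relation. -/
structure Pair (R : Subgroup G) (h w : G) (u : G) : Prop where
  card : Nat.card R = 16
  comm : ∀ a ∈ R, ∀ b ∈ R, a * b = b * a
  sq : ∀ a ∈ R, a * a = 1
  h15 : orderOf h = 15
  hR : h ∈ Subgroup.normalizer (R : Set G)
  hfix : ∀ x ∈ Subgroup.zpowers h, x ≠ 1 → ∀ r ∈ R, x * r = r * x → r = 1
  w2 : w * w = 1
  winv : w * h * w = h⁻¹
  uR : u ∈ R
  u1 : u ≠ 1
  braid : w * u * w = u * w * u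

variable {R : Subgroup G} {h w u : G}

/-- The point stabilizer. -/
def borel (R : Subgroup G) (h : G) : Subgroup G := R ⊔ Subgroup.zpowers h

theorem Pair.zp_norm (P : Pair R h w u) : Subgroup.zpowers h ≤ Subgroup.normalizer (R : Set G) :=
  Subgroup.zpowers_le.2 P.hR

theorem Pair.conjR (P : Pair R h w u) {x r : G} (hx : x ∈ Subgroup.zpowers h) (hr : r ∈ R) : x * r * x⁻¹ ∈ R :=
  (Subgroup.mem_normalizer_iff.1 (P.zp_norm hx) r).1 hr

theorem Pair.mem_borel (P : Pair R h w u) {b : G} :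
    b ∈ borel R h ↔ ∃ r ∈ R, ∃ x ∈ Subgroup.zpowers h, r * x = b := by
  rw [borel, ← SetLike.mem_coe, Subgroup.coe_mul_of_right_le_normalizer_left _ _ P.zp_norm, Set.mem_mul]
  rfl

theorem r_mem {r : G} (hr : r ∈ R) : r ∈ borel R h := (le_sup_left : R ≤ borel R h) hr

theorem x_mem {x : G} (hx : x ∈ Subgroup.zpowers h) : x ∈ borel R h :=
  (le_sup_right : Subgroup.zpowers h ≤ borel R h) hx

theorem Pair.w_inv (P : Pair R h w u) : w⁻¹ = w := inv_eq_of_mul_eq_one_right P.w2

theorem Pair.wx (P : Pair R h w u) {x : G} (hx : x ∈ Subgroup.zpowers h) : w * x = x⁻¹ * w := by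
  obtain ⟨i, rfl⟩ := hx
  have h1 : w * h ^ i * w⁻¹ = (h ^ i)⁻¹ := by
    rw [← conj_zpow, P.w_inv, P.winv, inv_zpow]
  exact mul_inv_eq_iff_eq_mul.1 h1

theorem Pair.trans (P : Pair R h w u) [Finite G] {r : G} (hr : r ∈ R) (hr1 : r ≠ 1) :
    ∃ x ∈ Subgroup.zpowers h, x * u * x⁻¹ = r := by
  classical
  let f : Subgroup.zpowers h → {m : R // m ≠ 1} := fun x => ⟨⟨(x : G) * u * (x : G)⁻¹, P.conjR x.2 P.uR⟩,
    fun e => P.u1 (conj_eq_one_iff.1 (congrArg Subtype.val e))⟩
  have hf : Function.Injective f := by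
    intro x y e
    have e' : (x : G) * u * (x : G)⁻¹ = (y : G) * u * (y : G)⁻¹ :=
      congrArg (fun m : {m : R // m ≠ 1} => ((m.1 : R) : G)) e
    refine Subtype.ext ?_
    by_contra hne
    refine P.u1 (P.hfix ((y : G)⁻¹ * x) (mul_mem (inv_mem y.2) x.2) (fun h1 => hne (inv_mul_eq_one.1 h1).symm)
      u P.uR ?_)
    calc (y : G)⁻¹ * x * u = (y : G)⁻¹ * ((x : G) * u * (x : G)⁻¹) * x := by group
      _ = u * ((y : G)⁻¹ * x) := by rw [e']; group
  have hb : Function.Bijective f := (Nat.bijective_iff_injective_and_card f).2 ⟨hf, by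
    haveI := Fintype.ofFinite R
    rw [Nat.card_zpowers, P.h15, Nat.card_eq_fintype_card, Fintype.card_subtype_compl, Fintype.card_subtype_eq,
      ← Nat.card_eq_fintype_card, P.card]⟩
  obtain ⟨x, hx⟩ := hb.2 ⟨⟨r, hr⟩, fun e => hr1 (congrArg Subtype.val e)⟩
  exact ⟨x, x.2, congrArg (fun m : {m : R // m ≠ 1} => ((m.1 : R) : G)) hx⟩

theorem Pair.w_not_borel (P : Pair R h w u) : w ∉ borel R h := by
  intro hw
  obtain ⟨r, hr, x, hx, e⟩ := P.mem_borel.1 hw
  have hh : h ∈ Subgroup.zpowers h := Subgroup.mem_zpowers h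
  have hxh : Commute x h := by
    obtain ⟨i, rfl⟩ := hx
    exact (Commute.refl h).zpow_left i
  have h1 : r * h * r⁻¹ = h⁻¹ := by
    calc r * h * r⁻¹ = r * (x * h * x⁻¹) * r⁻¹ := by rw [hxh.eq, mul_inv_cancel_right]
      _ = w * h * w⁻¹ := by rw [← e]; group
      _ = h⁻¹ := by rw [P.w_inv, P.winv]
  have hh2R : h * h ∈ R := by
    have h2 : h * h = h * r * (h⁻¹ : G) * r⁻¹ := by
      calc h * h = h * (h⁻¹)⁻¹ := by rw [inv_inv]
        _ = h * (r * h * r⁻¹)⁻¹ := by rw [h1]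
        _ = h * r * h⁻¹ * r⁻¹ := by group
    rw [h2]
    exact R.mul_mem (P.conjR hh hr) (R.inv_mem hr)
  have h4 : h ^ 4 = 1 := by
    rw [show 4 = 2 * 2 from rfl, pow_mul, pow_two h, pow_two]
    exact P.sq _ hh2R
  have := orderOf_dvd_of_pow_eq_one h4
  rw [P.h15] at this
  norm_num at this

theorem Pair.flip (P : Pair R h w u) [Finite G] {r : G} (hr : r ∈ R) (hr1 : r ≠ 1) :
    ∃ r1 ∈ R, ∃ b ∈ borel R h, w * r * w = r1 * w * b := by
  obtain ⟨x, hx, rfl⟩ := P.trans hr hr1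
  refine ⟨x⁻¹ * u * x⁻¹⁻¹, P.conjR (inv_mem hx) P.uR, x⁻¹ * x⁻¹⁻¹ * x * u * x, ?_, ?_⟩
  · exact mul_mem (mul_mem (mul_mem (mul_mem (x_mem (inv_mem hx)) (x_mem (inv_mem (inv_mem hx)))) (x_mem hx))
      (r_mem P.uR)) (x_mem hx)
  · have e1 : x⁻¹ * w = w * x := (P.wx hx).symm
    have e2 : x⁻¹ * w * x⁻¹ = w := by rw [e1, mul_inv_cancel_right]
    calc w * (x * u * x⁻¹) * w = (w * x) * u * (x⁻¹ * w) := by group
      _ = (x⁻¹ * w) * u * (w * x) := by rw [← e1]
      _ = x⁻¹ * (w * u * w) * x := by group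
      _ = x⁻¹ * (u * w * u) * x := by rw [P.braid]
      _ = x⁻¹ * u * x * (x⁻¹ * w) * u * x := by group
      _ = x⁻¹ * u * x * (w * x) * u * x := by rw [e1]
      _ = _ := by group

/-- The two cells. -/
def cells (R : Subgroup G) (h w : G) : Set G :=
  {g | g ∈ borel R h ∨ ∃ r ∈ R, ∃ b ∈ borel R h, g = r * w * b}

theorem Pair.left_absorb (P : Pair R h w u) {b c : G} (hb : b ∈ borel R h) (hc : c ∈ cells R h w) :
    b * c ∈ cells R h w := by
  rcases hc with hc | ⟨r, hr, b', hb', rfl⟩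
  · exact Or.inl (mul_mem hb hc)
  · obtain ⟨r2, hr2, x, hx, e⟩ := P.mem_borel.1 (mul_mem hb (r_mem hr))
    refine Or.inr ⟨r2, hr2, x⁻¹ * b', mul_mem (x_mem (inv_mem hx)) hb', ?_⟩
    calc b * (r * w * b') = (r2 * x) * w * b' := by rw [e]; group
      _ = r2 * ((x⁻¹)⁻¹ * w) * b' := by group
      _ = r2 * (w * x⁻¹) * b' := by rw [P.wx (inv_mem hx)]
      _ = r2 * w * (x⁻¹ * b') := by group

theorem Pair.w_absorb (P : Pair R h w u) [Finite G] {c : G} (hc : c ∈ cells R h w) : w * c ∈ cells R h w := by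
  rcases hc with hc | ⟨r, hr, b, hb, rfl⟩
  · exact Or.inr ⟨1, R.one_mem, c, hc, by rw [one_mul]⟩
  · rw [← mul_assoc, ← mul_assoc]
    by_cases hr1 : r = 1
    · subst hr1
      rw [mul_one, P.w2, one_mul]
      exact Or.inl hb
    · obtain ⟨r1, hr1', b1, hb1, e⟩ := P.flip hr hr1
      exact Or.inr ⟨r1, hr1', b1 * b, mul_mem hb1 hb, by rw [e]; group⟩

/-- The group made of the two cells. -/
def Pair.group (P : Pair R h w u) [Finite G] : Subgroup G where
  carrier := cells R h w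
  one_mem' := Or.inl (one_mem _)
  mul_mem' := by
    rintro a c (ha | ⟨r, hr, b, hb, rfl⟩) hc
    · exact P.left_absorb ha hc
    · rw [mul_assoc, mul_assoc]
      exact P.left_absorb (r_mem hr) (P.w_absorb (P.left_absorb hb hc))
  inv_mem' := by
    rintro a (ha | ⟨r, hr, b, hb, rfl⟩)
    · exact Or.inl (inv_mem ha)
    · rw [mul_inv_rev, mul_inv_rev, P.w_inv]
      exact P.left_absorb (inv_mem hb) (P.w_absorb (Or.inl (inv_mem (r_mem hr))))

variable [Finite G]

theorem Pair.mem_group (P : Pair R h w u) {g : G} :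
    g ∈ P.group ↔ g ∈ borel R h ∨ ∃ r ∈ R, ∃ b ∈ borel R h, g = r * w * b := Iff.rfl

theorem Pair.cell_unique (P : Pair R h w u) {r r' : G} (hr : r ∈ R) (hr' : r' ∈ R)
    (e : (r * w)⁻¹ * (r' * w) ∈ borel R h) : r = r' := by
  by_contra hne
  have hne' : r⁻¹ * r' ≠ 1 := fun h1 => hne (inv_mul_eq_one.1 h1)
  obtain ⟨r1, hr1, b, hb, e1⟩ := P.flip (R.mul_mem (R.inv_mem hr) hr') hne'
  have e2 : (r * w)⁻¹ * (r' * w) = r1 * w * b := by
    rw [← e1, mul_inv_rev, P.w_inv]; group
  rw [e2] at e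
  refine P.w_not_borel ?_
  have := mul_mem (inv_mem (r_mem hr1)) (mul_mem e (inv_mem hb))
  simpa [mul_assoc] using this

theorem Pair.cell_ne (P : Pair R h w u) {r : G} (hr : r ∈ R) : r * w ∉ borel R h := fun e =>
  P.w_not_borel ((Subgroup.mul_mem_cancel_left _ (r_mem hr)).1 e)

theorem Pair.disjoint (P : Pair R h w u) : R ⊓ Subgroup.zpowers h = ⊥ :=
  (Subgroup.disjoint_of_coprime_natCard (by rw [P.card, Nat.card_zpowers, P.h15]; norm_num)).eq_bot

theorem Pair.card_borel (P : Pair R h w u) : Nat.card (borel R h) = 240 := by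
  let f : R × Subgroup.zpowers h → borel R h := fun p => ⟨(p.1 : G) * p.2, mul_mem (r_mem p.1.2) (x_mem p.2.2)⟩
  have hf : Function.Bijective f := by
    refine ⟨?_, fun b => ?_⟩
    · rintro ⟨a, x⟩ ⟨a', x'⟩ e
      have e' : (a : G) * x = a' * x' := congrArg Subtype.val e
      have h1 : (a' : G)⁻¹ * a = x' * (x : G)⁻¹ := by
        rw [inv_mul_eq_iff_eq_mul, ← mul_assoc, eq_mul_inv_iff_mul_eq, e']
      have h2 : (a' : G)⁻¹ * a ∈ R ⊓ Subgroup.zpowers h :=
        Subgroup.mem_inf.2 ⟨R.mul_mem (R.inv_mem a'.2) a.2, by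
          rw [h1]; exact (Subgroup.zpowers h).mul_mem x'.2 ((Subgroup.zpowers h).inv_mem x.2)⟩
      rw [P.disjoint, Subgroup.mem_bot] at h2
      exact Prod.ext (Subtype.ext (inv_mul_eq_one.1 h2).symm)
        (Subtype.ext (mul_inv_eq_one.1 (h1.symm.trans h2)).symm)
    · obtain ⟨r, hr, x, hx, e⟩ := P.mem_borel.1 b.2
      exact ⟨(⟨r, hr⟩, ⟨x, hx⟩), Subtype.ext e⟩
  rw [← Nat.card_congr (Equiv.ofBijective f hf), Nat.card_prod, P.card, Nat.card_zpowers, P.h15]

/-- The seventeen points. -/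
abbrev Pair.Pts (P : Pair R h w u) : Type u := P.group ⧸ (borel R h).subgroupOf P.group

theorem Pair.rw_mem (P : Pair R h w u) {r : G} (hr : r ∈ R) : r * w ∈ P.group :=
  Or.inr ⟨r, hr, 1, one_mem _, (mul_one _).symm⟩

/-- The enumeration of the points. -/
def Pair.point (P : Pair R h w u) : Option R → P.Pts
  | none => QuotientGroup.mk 1
  | some r => QuotientGroup.mk ⟨(r : G) * w, P.rw_mem r.2⟩

theorem Pair.mk_eq (P : Pair R h w u) (a b : P.group) :
    (QuotientGroup.mk a : P.Pts) = QuotientGroup.mk b ↔ (a : G)⁻¹ * b ∈ borel R h := by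
  rw [QuotientGroup.eq, Subgroup.mem_subgroupOf]; rfl

theorem Pair.point_bijective (P : Pair R h w u) : Function.Bijective P.point := by
  constructor
  · rintro (_ | ⟨r, hr⟩) (_ | ⟨r', hr'⟩) e
    · rfl
    · have e' := (P.mk_eq _ _).1 e
      rw [Subgroup.coe_one, inv_one, one_mul] at e'
      exact absurd e' (P.cell_ne hr')
    · have e' := inv_mem ((P.mk_eq _ _).1 e)
      rw [mul_inv_rev, inv_inv, Subgroup.coe_one, inv_one, one_mul] at e'
      exact absurd e' (P.cell_ne hr)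
    · exact congrArg some (Subtype.ext (P.cell_unique hr hr' ((P.mk_eq _ _).1 e)))
  · intro p
    obtain ⟨⟨g, hg⟩, rfl⟩ := QuotientGroup.mk_surjective p
    rcases hg with hg | ⟨r, hr, b, hb, rfl⟩
    · exact ⟨none, (P.mk_eq _ _).2 (by simpa using hg)⟩
    · refine ⟨some ⟨r, hr⟩, (P.mk_eq _ _).2 ?_⟩
      simpa [mul_assoc] using hb

theorem Pair.card_pts (P : Pair R h w u) : Nat.card P.Pts = 17 := by
  rw [← Nat.card_congr (Equiv.ofBijective _ P.point_bijective), Finite.card_option, P.card]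

theorem Pair.borel_le (P : Pair R h w u) : borel R h ≤ P.group := fun _ hb => Or.inl hb

theorem Pair.card_group (P : Pair R h w u) : Nat.card P.group = 4080 := by
  rw [Subgroup.card_eq_card_quotient_mul_card_subgroup ((borel R h).subgroupOf P.group),
    Nat.card_congr (Subgroup.subgroupOfEquivOfLe P.borel_le).toEquiv, P.card_borel]
  show Nat.card P.Pts * 240 = 4080
  rw [P.card_pts]

theorem Pair.smul_none (P : Pair R h w u) (g : P.group) :
    g • P.point none = P.point none ↔ (g : G) ∈ borel R h := by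
  show (QuotientGroup.mk (g * 1) : P.Pts) = QuotientGroup.mk 1 ↔ _
  rw [P.mk_eq, mul_one, Subgroup.coe_one, mul_one, Subgroup.inv_mem_iff]

theorem Pair.zassenhaus (P : Pair R h w u) : IsZassenhausGroup P.group P.Pts := by
  classical
  set O : P.Pts := P.point none with hO
  set I : P.Pts := P.point (some 1) with hI
  have hOI : O ≠ I := fun e => by simpa using P.point_bijective.1 e
  have hbr : ∀ {b r : G} (hb : b ∈ borel R h) (hr : r ∈ R) {r2 x : G} (hr2 : r2 ∈ R), x ∈ Subgroup.zpowers h →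
      b * r = r2 * x → (⟨b, P.borel_le hb⟩ : P.group) • P.point (some ⟨r, hr⟩) = P.point (some ⟨r2, hr2⟩) := by
    intro b r hb hr r2 x hr2 hx e
    refine (P.mk_eq _ _).2 ?_
    show (b * (r * w))⁻¹ * (r2 * w) ∈ borel R h
    rw [← mul_assoc b r w, e]
    have : (r2 * x * w)⁻¹ * (r2 * w) = w⁻¹ * x⁻¹ * w := by group
    rw [this, mul_assoc, show x⁻¹ * w = w * x from (P.wx hx).symm, inv_mul_cancel_left]
    exact x_mem hx
  -- three fixed points
  have hto : ∀ p q : P.Pts, p ≠ q → ∃ g : P.group, g • p = O ∧ g • q = I := by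
    intro p q hpq
    obtain ⟨g, rfl⟩ := QuotientGroup.mk_surjective p
    have h1 : g⁻¹ • (QuotientGroup.mk g : P.Pts) = O := by
      show (QuotientGroup.mk (g⁻¹ * g) : P.Pts) = QuotientGroup.mk 1
      rw [inv_mul_cancel]
    obtain ⟨o, ho⟩ := P.point_bijective.2 (g⁻¹ • q)
    rcases o with _ | r
    · refine absurd (smul_left_cancel g⁻¹ (h1.trans ?_)) hpq
      exact ho
    · refine ⟨⟨(r : G)⁻¹, P.borel_le (inv_mem (r_mem r.2))⟩ * g⁻¹, ?_, ?_⟩
      · rw [mul_smul, h1]
        exact (P.smul_none _).2 (inv_mem (r_mem r.2))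
      · rw [mul_smul, ← ho]
        exact hbr (inv_mem (r_mem r.2)) r.2 R.one_mem (one_mem (Subgroup.zpowers h))
          (by rw [inv_mul_cancel, one_mul])
  have hthree : ∀ g : P.group, ∀ c : P.Pts, c ≠ O → c ≠ I → g • O = O → g • I = I → g • c = c → g = 1 := by
    rintro ⟨g, hg⟩ c hcO hcI gO gI gc
    have hgB : g ∈ borel R h := (P.smul_none _).1 gO
    obtain ⟨r, hr, x, hx, e⟩ := P.mem_borel.1 hgB
    have hI' := hbr hgB R.one_mem hr hx (by rw [mul_one, e])
    have hr1 : r = 1 := by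
      have := P.point_bijective.1 (hI'.symm.trans gI)
      simpa using congrArg (Option.map Subtype.val) this
    obtain ⟨o, rfl⟩ := P.point_bijective.2 c
    rcases o with _ | ⟨r0, hr0⟩
    · exact absurd rfl hcO
    have hr01 : r0 ≠ 1 := fun e0 => hcI (by subst e0; rfl)
    have hgx : g = x := by rw [← e, hr1, one_mul]
    have hc' := hbr hgB hr0 (P.conjR hx hr0) hx (by rw [hgx]; group)
    have h2 := P.point_bijective.1 (hc'.symm.trans gc)
    have h3 : x * r0 * x⁻¹ = r0 := by simpa using congrArg (Option.map Subtype.val) h2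
    refine Subtype.ext ?_
    show g = 1
    by_contra hg1
    exact hr01 (P.hfix x hx (hgx ▸ hg1) r0 hr0 (mul_inv_eq_iff_eq_mul.1 h3))
  have hfaith : FaithfulSMul P.group P.Pts := ⟨fun {g g'} hgg => by
    have hc : ∀ p : P.Pts, (g'⁻¹ * g) • p = p := fun p => by rw [mul_smul, hgg, inv_smul_smul]
    refine (inv_mul_eq_one.1 (hthree _ (P.point (some ⟨u, P.uR⟩)) ?_ ?_ (hc _) (hc _) (hc _))).symm
    · exact fun e => by simpa using P.point_bijective.1 e
    · exact fun e => P.u1 (by simpa using P.point_bijective.1 e)⟩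
  refine ⟨hfaith, MulAction.is_two_pretransitive_iff.2 ?_, ?_, ?_, ?_⟩
  · intro a b c d hab hcd
    obtain ⟨g, ga, gb⟩ := hto a b hab
    obtain ⟨g', gc, gd⟩ := hto c d hcd
    exact ⟨g'⁻¹ * g, by rw [mul_smul, ga, ← gc, inv_smul_smul], by rw [mul_smul, gb, ← gd, inv_smul_smul]⟩
  · intro g a b c hab hbc hac ga gb gc
    obtain ⟨k, ka, kb⟩ := hto a b hab
    have hk : ∀ p : P.Pts, g • p = p → (k * g * k⁻¹) • (k • p) = k • p := fun p hp => by
      rw [mul_smul, mul_smul, inv_smul_smul, hp]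
    have h1 := hthree (k * g * k⁻¹) (k • c) (fun e => hac (smul_left_cancel k (ka.trans e.symm)))
      (fun e => hbc (smul_left_cancel k (kb.trans e.symm))) (ka ▸ hk a ga) (kb ▸ hk b gb) (hk c gc)
    exact conj_eq_one_iff.1 h1
  · refine ⟨⟨h, P.borel_le (x_mem (Subgroup.mem_zpowers h))⟩, fun e => ?_, O, I, hOI, ?_, ?_⟩
    · have := P.h15
      rw [show h = 1 from congrArg Subtype.val e, orderOf_one] at this
      norm_num at this
    · exact (P.smul_none _).2 (x_mem (Subgroup.mem_zpowers h))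
    · exact hbr (x_mem (Subgroup.mem_zpowers h)) R.one_mem R.one_mem (Subgroup.mem_zpowers h)
        (by rw [mul_one, one_mul])
  · intro N hN hpre
    by_contra hcon
    push Not at hcon
    have hinj : Function.Bijective (fun n : N => n • O) := by
      refine ⟨fun n n' e => ?_, hpre.exists_smul_eq O⟩
      have e' : n'⁻¹ * n ∈ MulAction.stabilizer N O := by
        rw [MulAction.mem_stabilizer_iff, mul_smul]
        have : n • O = n' • O := e
        rw [this, inv_smul_smul]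
      exact (inv_mul_eq_one.1 (Subgroup.mem_bot.1 ((hcon O).le e'))).symm
    have hN17 : Nat.card N = 17 := (Nat.card_congr (Equiv.ofBijective _ hinj)).trans P.card_pts
    haveI : Fact (Nat.Prime 17) := ⟨by norm_num⟩
    haveI : IsCyclic N := isCyclic_of_prime_card hN17
    obtain ⟨n0, hn0⟩ := IsCyclic.exists_generator (α := N)
    -- each involution of `R` inverts or centralizes `N`
    have hsign : ∀ r (hr : r ∈ R), (⟨r, P.borel_le (r_mem hr)⟩ : P.group) * n0 * (⟨r, P.borel_le (r_mem hr)⟩ : P.group)⁻¹ = n0 ∨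
        (⟨r, P.borel_le (r_mem hr)⟩ : P.group) * n0 * (⟨r, P.borel_le (r_mem hr)⟩ : P.group)⁻¹ = (n0 : P.group)⁻¹ := by
      intro r hr
      set a : P.group := ⟨r, P.borel_le (r_mem hr)⟩
      obtain ⟨k, hk⟩ := hn0 ⟨a * n0 * a⁻¹, hN.conj_mem _ n0.2 a⟩
      have hk' : (n0 : P.group) ^ k = a * n0 * a⁻¹ := by
        have := congrArg Subtype.val hk
        simpa using this
      have ha2 : a * a = 1 := Subtype.ext (P.sq r hr)
      have h2 : (n0 : P.group) ^ (k * k) = (n0 : P.group) ^ (1 : ℤ) := by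
        rw [zpow_mul, hk', conj_zpow, hk', zpow_one]
        calc a * (a * n0 * a⁻¹) * a⁻¹ = (a * a) * n0 * (a * a)⁻¹ := by group
          _ = n0 := by rw [ha2]; group
      have ho : orderOf (n0 : P.group) = 17 := by
        rw [Subgroup.orderOf_coe, orderOf_eq_card_of_forall_mem_zpowers hn0, hN17]
      rw [zpow_eq_zpow_iff_modEq, ho, ← ZMod.intCast_eq_intCast_iff] at h2
      push_cast at h2
      rcases mul_self_eq_one_iff.1 h2 with e | e
      · left; rw [← hk']; conv_rhs => rw [← zpow_one (n0 : P.group)]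
        rw [zpow_eq_zpow_iff_modEq, ho, ← ZMod.intCast_eq_intCast_iff, e, Int.cast_one]
      · right; rw [← hk', ← zpow_neg_one, zpow_eq_zpow_iff_modEq, ho, ← ZMod.intCast_eq_intCast_iff, e]
        push_cast; rfl
    -- some involution of `R` centralizes `N`
    obtain ⟨r, hr, hr1, hrc⟩ : ∃ r, ∃ hr : r ∈ R, r ≠ 1 ∧ (⟨r, P.borel_le (r_mem hr)⟩ : P.group) * n0 =
        n0 * (⟨r, P.borel_le (r_mem hr)⟩ : P.group) := by
      have hh := Subgroup.mem_zpowers h
      have hv := P.conjR hh P.uR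
      have hne : u * (h * u * h⁻¹) ≠ 1 := fun e => by
        have e1 : h * u * h⁻¹ = u := mul_left_cancel (e.trans (P.sq u P.uR).symm)
        refine P.u1 (P.hfix h hh (fun h1 => ?_) u P.uR (mul_inv_eq_iff_eq_mul.1 e1))
        have := P.h15
        rw [h1, orderOf_one] at this
        norm_num at this
      rcases hsign u P.uR with e | e
      · exact ⟨u, P.uR, P.u1, mul_inv_eq_iff_eq_mul.1 e⟩
      rcases hsign _ hv with e' | e'
      · exact ⟨_, hv, fun e0 => P.u1 (conj_eq_one_iff.1 e0), mul_inv_eq_iff_eq_mul.1 e'⟩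
      refine ⟨_, R.mul_mem P.uR hv, hne, mul_inv_eq_iff_eq_mul.1 ?_⟩
      set a : P.group := ⟨u, P.borel_le (r_mem P.uR)⟩
      set c : P.group := ⟨h * u * h⁻¹, P.borel_le (r_mem hv)⟩
      calc (a * c) * n0 * (a * c)⁻¹ = a * (c * n0 * c⁻¹) * a⁻¹ := by group
        _ = n0 := by rw [e', ← conj_inv, e, inv_inv]
    set a : P.group := ⟨r, P.borel_le (r_mem hr)⟩
    have haO : a • O = O := (P.smul_none _).2 (r_mem hr)
    have hfix : ∀ p : P.Pts, a • p = p := by
      intro p
      obtain ⟨n, rfl⟩ := hinj.2 p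
      obtain ⟨k, rfl⟩ := hn0 n
      show a • (((n0 ^ k : N) : P.group) • O) = ((n0 ^ k : N) : P.group) • O
      rw [← mul_smul, Subgroup.coe_zpow, ((show Commute a (n0 : P.group) from hrc).zpow_right k).eq, mul_smul, haO]
    exact hr1 (congrArg Subtype.val (hfaith.eq_of_smul_eq_smul (m₂ := (1 : P.group)) fun p => by rw [hfix, one_smul]))

theorem Pair.exists_iso (P : Pair R h w u) :
    ∃ (K : Type) (_ : Field K) (_ : Fintype K), Fintype.card K = 16 ∧
      Nonempty (P.group ≃* Matrix.SpecialLinearGroup (Fin 2) K) := by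
  classical
  haveI : Fintype P.Pts := Fintype.ofFinite _
  have hZ := P.zassenhaus
  haveI : IsSimpleGroup P.group :=
    Cfsg.Agent.S0338.result hZ (by rw [← Nat.card_eq_fintype_card, P.card_pts]; decide)
  rcases Cfsg.Agent.S0340.result hZ with ⟨F, iF, iFF, ⟨e⟩⟩ | hS
  · letI := iF
    letI := iFF
    have hc : Nat.card (Matrix.ProjectiveSpecialLinearGroup (Fin 2) F) = 4080 :=
      (Nat.card_congr e.toEquiv).symm.trans P.card_group
    have hgcd := Classical.natCard_PSL_mul (F := F) 2 (by norm_num)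
    rw [hc, Fus.PSLTwo.natCard_SL_two, Classical.natCard_units_field] at hgcd
    rw [← Nat.card_eq_fintype_card] at hgcd
    have hq1 : 1 < Fintype.card F := Fintype.one_lt_card
    have hq : Fintype.card F = 16 := by
      have hdv := Nat.gcd_dvd_left 2 (Nat.card F - 1)
      have hle := Nat.le_of_dvd (by norm_num) hdv
      rw [Nat.card_eq_fintype_card] at hgcd hle
      obtain ⟨q, hq⟩ : ∃ q, q = Fintype.card F := ⟨_, rfl⟩
      rw [← hq] at hgcd hle hq1 ⊢
      have hbound : q < 22 := by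
        by_contra hlt
        push Not at hlt
        have h1 : 22 * (21 * 23) ≤ q * ((q - 1) * (q + 1)) :=
          Nat.mul_le_mul hlt (Nat.mul_le_mul (by omega) (by omega))
        have h2 : Nat.gcd 2 (q - 1) * 4080 ≤ 2 * 4080 := Nat.mul_le_mul hle le_rfl
        omega
      interval_cases q <;> first | rfl | norm_num at hgcd
    have hchar : (2 : F) = 0 := by
      have h16 : ((16 : ℕ) : F) = 0 := by rw [← hq]; exact Nat.cast_card_eq_zero F
      have : (2 : F) ^ 4 = 0 := by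
        rw [← h16]; norm_num
      exact pow_eq_zero_iff (by norm_num) |>.1 this
    exact ⟨F, iF, iFF, hq, ⟨e.trans ((QuotientGroup.quotientMulEquivOfEq
      (Fus.CTSimple.center_eq_bot_of_two hchar)).trans QuotientGroup.quotientBot)⟩⟩
  · exfalso
    obtain ⟨-, m, hm, hcard⟩ := hS
    rw [P.card_group] at hcard
    have h8 : 8 ≤ 2 ^ (2 * m + 1) :=
      le_trans (by norm_num) (Nat.pow_le_pow_right (by norm_num) (show 3 ≤ 2 * m + 1 by omega))
    set q := 2 ^ (2 * m + 1)
    have h1 : 8 ^ 2 * (8 ^ 2 + 1) * 7 ≤ q ^ 2 * (q ^ 2 + 1) * (q - 1) :=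
      Nat.mul_le_mul (Nat.mul_le_mul (Nat.pow_le_pow_left h8 2) (Nat.add_le_add_right (Nat.pow_le_pow_left h8 2) 1))
        (by omega)
    omega

/-- An involution normalizing the pair gives the extension of degree two. -/
theorem Pair.extension (P : Pair R h w u) {z : G} (hz : orderOf z = 2) (hzR : z ∈ Subgroup.normalizer (R : Set G))
    (hzh : z * h * z⁻¹ ∈ Subgroup.zpowers h) (hzw : z * w = w * z)
    (hzfix : ∃ x ∈ Subgroup.zpowers h, x ≠ 1 ∧ x * z = z * x) :
    ∃ (H : Subgroup G) (N : Subgroup H) (K : Type) (_ : Field K) (_ : Fintype K), N.Normal ∧ N.index = 2 ∧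
      Fintype.card K = 16 ∧ Nonempty (N ≃* Matrix.SpecialLinearGroup (Fin 2) K) := by
  obtain ⟨hz2, hz1⟩ := two_iff.1 hz
  have hzRm : ∀ r ∈ R, z * r * z⁻¹ ∈ R := fun r hr => (Subgroup.mem_normalizer_iff.1 hzR r).1 hr
  have hzx : ∀ x ∈ Subgroup.zpowers h, z * x * z⁻¹ ∈ Subgroup.zpowers h := by
    rintro _ ⟨i, rfl⟩
    rw [← conj_zpow]
    exact Subgroup.zpow_mem _ hzh i
  have hzB : ∀ b ∈ borel R h, z * b * z⁻¹ ∈ borel R h := by
    intro b hb
    obtain ⟨r, hr, x, hx, rfl⟩ := P.mem_borel.1 hb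
    rw [← conj_mul]
    exact mul_mem (r_mem (hzRm r hr)) (x_mem (hzx x hx))
  have hnot : z ∉ P.group := by
    obtain ⟨x, hx, hx1, hxz⟩ := hzfix
    rintro (hb | ⟨r, hr, b, hb, e⟩)
    · obtain ⟨r, hr, y, hy, e⟩ := P.mem_borel.1 hb
      have hr1 : r = 1 := P.hfix x hx hx1 r hr (by
        have hxy : Commute x y := by
          obtain ⟨i, rfl⟩ := hx
          obtain ⟨j, rfl⟩ := hy
          exact (Commute.refl h).zpow_zpow i j
        rw [← e] at hxz
        have h2 : x * r * y = r * x * y := by rw [mul_assoc x, hxz, mul_assoc, ← hxy.eq, mul_assoc]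
        exact mul_right_cancel h2)
      rw [hr1, one_mul] at e
      have := Subgroup.orderOf_dvd_natCard _ (e ▸ hy)
      rw [hz, Nat.card_zpowers, P.h15] at this
      norm_num at this
    · -- an element of the big cell does not normalize `R`
      have hbn : b ∈ Subgroup.normalizer (R : Set G) := sup_le Subgroup.le_normalizer P.zp_norm hb
      have hwn : w ∈ Subgroup.normalizer (R : Set G) := by
        have h1 : r⁻¹ * z * b⁻¹ ∈ Subgroup.normalizer (R : Set G) :=
          mul_mem (mul_mem (inv_mem (Subgroup.le_normalizer hr)) hzR) (inv_mem hbn)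
        rw [e] at h1
        simpa [mul_assoc] using h1
      have h3 : w * u * w ∈ R := by
        have := (Subgroup.mem_normalizer_iff.1 hwn u).1 P.uR
        rwa [P.w_inv] at this
      rw [P.braid] at h3
      have hwR : w ∈ R := by
        have := R.mul_mem (R.mul_mem (R.inv_mem P.uR) h3) (R.inv_mem P.uR)
        simpa [mul_assoc] using this
      exact P.w_not_borel (r_mem hwR)
  have hzX : ∀ g ∈ P.group, z * g * z⁻¹ ∈ P.group := by
    rintro g (hg | ⟨r, hr, b, hb, rfl⟩)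
    · exact Or.inl (hzB g hg)
    · refine Or.inr ⟨z * r * z⁻¹, hzRm r hr, z * b * z⁻¹, hzB b hb, ?_⟩
      calc z * (r * w * b) * z⁻¹ = z * r * z⁻¹ * (z * w) * z⁻¹ * (z * b * z⁻¹) := by group
        _ = z * r * z⁻¹ * w * (z * b * z⁻¹) := by rw [hzw]; group
  have hzN : z ∈ Subgroup.normalizer (P.group : Set G) := Subgroup.mem_normalizer_fintype (h := fun g hg => hzX g hg)
  have hle : Subgroup.zpowers z ≤ Subgroup.normalizer (P.group : Set G) := Subgroup.zpowers_le.2 hzN
  set H := P.group ⊔ Subgroup.zpowers z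
  haveI hNn : (P.group.subgroupOf H).Normal :=
    Subgroup.normal_subgroupOf_iff_le_normalizer le_sup_left |>.2 (sup_le Subgroup.le_normalizer hle)
  have hidx : (P.group.subgroupOf H).index = 2 := by
    rw [Subgroup.index_eq_two_iff]
    refine ⟨⟨z, (le_sup_right : Subgroup.zpowers z ≤ H) (Subgroup.mem_zpowers z)⟩, fun g => ?_⟩
    simp only [Subgroup.mem_subgroupOf, Subgroup.coe_mul]
    have hg : (g : G) ∈ (↑(P.group ⊔ Subgroup.zpowers z) : Set G) := g.2
    rw [Subgroup.coe_mul_of_right_le_normalizer_left _ _ hle] at hg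
    obtain ⟨a, ha, c, hc, e⟩ := hg
    obtain ⟨i, rfl⟩ := hc
    rw [← e]
    have hi : z ^ i = 1 ∨ z ^ i = z := by
      rcases Int.emod_two_eq_zero_or_one i with hi | hi
      · left; rw [← zpow_mod_orderOf, hz]; simp [hi]
      · right; rw [← zpow_mod_orderOf, hz]; simp [hi]
    show Xor (a * z ^ i * z ∈ P.group) (a * z ^ i ∈ P.group)
    rcases hi with e' | e' <;> rw [e']
    · refine Or.inr ⟨by simpa using ha, ?_⟩
      rw [mul_one, Subgroup.mul_mem_cancel_left _ ha]
      exact hnot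
    · refine Or.inl ⟨by rw [mul_assoc, hz2, mul_one]; exact ha, ?_⟩
      rw [Subgroup.mul_mem_cancel_left _ ha]
      exact hnot
  obtain ⟨K, iK, iKF, hK, ⟨e⟩⟩ := P.exists_iso
  exact ⟨H, P.group.subgroupOf H, K, iK, iKF, hNn, hidx, hK,
    ⟨(Subgroup.subgroupOfEquivOfLe (le_sup_left : P.group ≤ H)).trans e⟩⟩

/-- The pair from a frame. -/
theorem Frame.exists_sub {z v t s : G} {Q R : Subgroup G} (F : Frame z R v t s) (hc : Core z Q) :
    ∃ (H : Subgroup G) (N : Subgroup H) (K : Type) (_ : Field K) (_ : Fintype K), N.Normal ∧ N.index = 2 ∧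
      Fintype.card K = 16 ∧ Nonempty (N ≃* Matrix.SpecialLinearGroup (Fin 2) K) := by
  obtain ⟨u, huR, hu1, hb⟩ := F.relation hc
  have hvt : Commute v t := F.vt
  have hv5 : v ^ 5 = 1 := F.v5 ▸ pow_orderOf_eq_one v
  have ht3 : t ^ 3 = 1 := F.t3 ▸ pow_orderOf_eq_one t
  have h15 : orderOf (v * t) = 15 := by
    rw [hvt.orderOf_mul_eq_mul_orderOf_of_coprime (by rw [F.v5, F.t3]; norm_num), F.v5, F.t3]
  have htmem : t ∈ Subgroup.zpowers (v * t) := by
    refine ⟨10, ?_⟩
    show (v * t) ^ (10 : ℤ) = t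
    rw [show (10 : ℤ) = ((10 : ℕ) : ℤ) by norm_num, zpow_natCast, hvt.mul_pow, show (10 : ℕ) = 5 * 2 from rfl,
      pow_mul v, hv5, one_pow, one_mul, show 5 * 2 = 3 * 3 + 1 from rfl, pow_succ, pow_mul, ht3, one_pow, one_mul]
  have hvmem : v ∈ Subgroup.zpowers (v * t) := by
    have := mul_mem (Subgroup.mem_zpowers (v * t)) (inv_mem htmem)
    simpa [mul_assoc] using this
  have hfix : ∀ x ∈ Subgroup.zpowers (v * t), x ≠ 1 → ∀ r ∈ R, x * r = r * x → r = 1 := by
    intro x hx hx1 r hr hxr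
    haveI : Fact (Nat.Prime 5) := ⟨by norm_num⟩
    haveI : Fact (Nat.Prime 3) := ⟨by norm_num⟩
    obtain ⟨j, hj⟩ := hx
    have hxj : x = v ^ j * t ^ j := by rw [← hvt.mul_zpow]; exact hj.symm
    have gen : ∀ {p : ℕ} [Fact p.Prime] {y y' : G}, orderOf y = p → y' ∈ Subgroup.zpowers y → y' ≠ 1 →
        y' * r = r * y' → y * r = r * y := by
      intro p _ y y' hy hy' hne hc
      have e : Subgroup.zpowers y' = Subgroup.zpowers y := by
        refine Subgroup.eq_of_le_of_card_ge (Subgroup.zpowers_le.2 hy') ?_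
        rw [Nat.card_zpowers, Nat.card_zpowers]
        have hd : orderOf y' ∣ p := hy ▸ orderOf_dvd_of_mem_zpowers hy'
        rcases (Nat.dvd_prime Fact.out).1 hd with h1 | h1
        · exact absurd (orderOf_eq_one_iff.1 h1) hne
        · rw [h1, hy]
      obtain ⟨i, hi⟩ := (e ▸ Subgroup.mem_zpowers y : y ∈ Subgroup.zpowers y')
      rw [← hi]
      exact ((show Commute y' r from hc).zpow_left i).eq
    by_cases hv1 : v ^ j = 1
    · rw [hv1, one_mul] at hxj
      exact F.tfix r hr (gen F.t3 ⟨j, hxj.symm⟩ hx1 hxr)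
    · have h6 : x ^ 6 = (v ^ j) := by
        rw [hxj, (hvt.zpow_zpow j j).mul_pow, ← zpow_natCast (t ^ j), ← zpow_mul, mul_comm, zpow_mul, zpow_natCast,
          show (6 : ℕ) = 3 * 2 from rfl, pow_mul t, ht3, one_pow, one_zpow, mul_one,
          show 3 * 2 = 5 + 1 from rfl, pow_succ (v ^ j), ← zpow_natCast (v ^ j), ← zpow_mul, mul_comm, zpow_mul,
          zpow_natCast, hv5, one_zpow, one_mul]
      exact F.vfix r hr (gen F.v5 ⟨j, h6.symm⟩ (by rw [h6]; exact hv1)
        ((show Commute x r from hxr).pow_left 6).eq)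
  have hzwinv : (z * s) * (v * t) * (z * s) = (v * t)⁻¹ := by
    have e1 : s * (v * t) * s = v * t⁻¹ := by
      calc s * (v * t) * s = (s * v * s) * (s⁻¹ * t * s) := by group
        _ = v * t⁻¹ := by
          rw [inv_eq_of_mul_eq_one_right F.s2, F.sv, mul_assoc v, F.s2, mul_one]
          nth_rewrite 2 [← inv_eq_of_mul_eq_one_right F.s2]
          rw [F.st]
    have hzi : z⁻¹ = z := inv_eq_of_mul_eq_one_right hc.z_sq
    calc (z * s) * (v * t) * (z * s) = z * (s * (v * t) * (z * s)) := by group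
      _ = z * (s * (v * t) * (s * z)) := by rw [F.sz]
      _ = z * (s * (v * t) * s) * z⁻¹ := by rw [hzi]; group
      _ = (z * v * z⁻¹) * (z * t * z⁻¹)⁻¹ := by rw [e1]; group
      _ = (v * t)⁻¹ := by rw [F.zv, F.zt, mul_inv_cancel_right, mul_inv_rev]; exact hvt.inv_inv.eq
  have hw2 : (z * s) * (z * s) = 1 := by
    calc z * s * (z * s) = z * (s * z) * s := by group
      _ = (z * z) * (s * s) := by rw [F.sz]; group
      _ = 1 := by rw [hc.z_sq, F.s2, one_mul]
  have P : Pair R (v * t) (z * s) u :=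
    { card := F.card, comm := F.comm, sq := F.sq, h15 := h15, hR := mul_mem F.vR F.tR, hfix := hfix, w2 := hw2
      winv := hzwinv, uR := huR, u1 := hu1, braid := hb }
  refine P.extension hc.hz F.zR ?_ ?_ ⟨t, htmem, fun e => ?_, F.zt.symm⟩
  · rw [← conj_mul, F.zv, F.zt, mul_inv_cancel_right]
    exact mul_mem (inv_mem hvmem) htmem
  · rw [mul_assoc z s z, F.sz]
  · have h3 := F.t3
    rw [e, orderOf_one] at h3
    norm_num at h3

end Cfsg.Agent.Invol.J3Type.LTwoSixteen
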