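import Cfsg.Agent.Lib.Invol.HJ.Model

/-!
# Facts about the alternating group of degree five
-/

set_option autoImplicit false
set_option linter.unusedSectionVars false
set_option linter.style.haveILetI false

namespace Cfsg.Agent.Invol.J3Type.LTwoSixteen

open Cfsg

set_option synthInstance.maxSize 4096 in
theorem a5_some_three : ∀ τ : alternatingGroup (Fin 5), τ * τ * τ = 1 → τ ≠ 1 →
    ∀ u : alternatingGroup (Fin 5), u * u = 1 → u ≠ 1 → τ * u * τ⁻¹ ≠ u →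
      u * (τ * u * τ⁻¹) = τ * u * τ⁻¹ * u →
    ∀ w : alternatingGroup (Fin 5), w * w = 1 → w * τ * w⁻¹ = τ⁻¹ →
      (w * u) ^ 3 = 1 ∨ (w * (τ * u * τ⁻¹)) ^ 3 = 1 ∨ (w * (τ * (τ * u * τ⁻¹) * τ⁻¹)) ^ 3 = 1 := by
  decide +kernel

set_option synthInstance.maxSize 4096 in
theorem a5_five : ∀ τ : alternatingGroup (Fin 5), τ * τ * τ = 1 → τ ≠ 1 →
    ∀ u : alternatingGroup (Fin 5), u * u = 1 → u ≠ 1 → τ * u * τ⁻¹ ≠ u →
      u * (τ * u * τ⁻¹) = τ * u * τ⁻¹ * u →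
    ∀ w : alternatingGroup (Fin 5), w * w = 1 → w * τ * w⁻¹ = τ⁻¹ → (w * u) ^ 3 = 1 →
      u * τ * u * τ * u * τ = 1 ∧ (τ * u * (τ * τ) * w) ^ 5 = 1 ∧ τ * u * (τ * τ) * w ≠ 1 := by
  decide +kernel

set_option synthInstance.maxSize 4096 in
theorem a5_five_fixed : ∀ g : alternatingGroup (Fin 5), g ^ 5 = 1 → g ≠ 1 →
    ∀ x : Fin 5 → ZMod 2, ∑ i, x i = 0 → (∀ i, x ((g : Equiv.Perm (Fin 5)) i) = x i) → x = 0 := by
  decide +kernel

set_option synthInstance.maxSize 4096 in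
set_option maxRecDepth 4000 in
theorem a5_vector : ∀ τ : alternatingGroup (Fin 5), τ * τ * τ = 1 → τ ≠ 1 →
    ∀ u : alternatingGroup (Fin 5), u * u = 1 → u ≠ 1 → τ * u * τ⁻¹ ≠ u →
      u * (τ * u * τ⁻¹) = τ * u * τ⁻¹ * u →
    ∀ w : alternatingGroup (Fin 5), w * w = 1 → w * τ * w⁻¹ = τ⁻¹ → (w * u) ^ 3 = 1 →
    ∀ x : Fin 5 → ZMod 2, ∑ i, x i = 0 → (∀ i, x ((u : Equiv.Perm (Fin 5)) i) = x i) →
      (∀ i, x ((w : Equiv.Perm (Fin 5)) i) = x i) →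
      (∀ i, x (((τ * u * τ)⁻¹ : alternatingGroup (Fin 5)).1 i) + x (((u * τ)⁻¹ : alternatingGroup (Fin 5)).1 i) +
        x (((τ * τ * u)⁻¹ : alternatingGroup (Fin 5)).1 i) = 0) → x = 0 := by
  decide +kernel

end Cfsg.Agent.Invol.J3Type.LTwoSixteen
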