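import Cfsg.Agent.Lib.Invol.J3Type.Sixteen
import Cfsg.Agent.Lib.Invol.J3Type.Model60

/-!
# The torus of order fifteen in the normalizer of the group of order sixteen
-/

set_option autoImplicit false
set_option linter.unusedSectionVars false
set_option linter.style.haveILetI false

namespace Cfsg.Agent.Invol.J3Type.LTwoSixteen

open Cfsg Cfsg.Agent.Invol.HJ

universe u

variable {G : Type u} [Group G] {z : G} {Q : Subgroup G}

/-- A group `R` of order sixteen with a torus `⟨v, t⟩`; `z` normalizes both and `s` inverts `t`. -/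
structure Frame (z : G) (R : Subgroup G) (v t s : G) : Prop where
  card : Nat.card R = 16
  comm : ∀ a ∈ R, ∀ b ∈ R, a * b = b * a
  sq : ∀ a ∈ R, a * a = 1
  v5 : orderOf v = 5
  t3 : orderOf t = 3
  vt : v * t = t * v
  vR : v ∈ Subgroup.normalizer (R : Set G)
  tR : t ∈ Subgroup.normalizer (R : Set G)
  zR : z ∈ Subgroup.normalizer (R : Set G)
  vfix : ∀ m ∈ R, v * m = m * v → m = 1
  tfix : ∀ m ∈ R, t * m = m * t → m = 1
  zv : z * v * z⁻¹ = v⁻¹
  zt : z * t = t * z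
  s2 : s * s = 1
  sz : s * z = z * s
  sv : s * v = v * s
  st : s * t * s⁻¹ = t⁻¹

/-- An involution normalizing an elementary group of order sixteen has a fixed point. -/
theorem exists_fixed [Finite G] {R : Subgroup G} (hR : Nat.card R = 16) (hcomm : ∀ a ∈ R, ∀ b ∈ R, a * b = b * a)
    (hsq : ∀ a ∈ R, a * a = 1) {i : G} (hi : i * i = 1) (hiR : i ∈ Subgroup.normalizer (R : Set G)) :
    ∃ r ∈ R, r ≠ 1 ∧ i * r = r * i := by
  haveI : Nontrivial R := Finite.one_lt_card_iff_nontrivial.1 (by rw [hR]; norm_num)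
  obtain ⟨⟨s, hs⟩, hs1⟩ := exists_ne (1 : R)
  have hs1' : s ≠ 1 := fun e => hs1 (Subtype.ext e)
  set s' := i * s * i⁻¹ with hs'
  have hs'R : s' ∈ R := (Subgroup.mem_normalizer_iff.1 hiR s).1 hs
  by_cases he : s * s' = 1
  · refine ⟨s, hs, hs1', mul_inv_eq_iff_eq_mul.1 ?_⟩
    rw [← hs', ← inv_eq_of_mul_eq_one_right he, inv_eq_of_mul_eq_one_right (hsq s hs)]
  · refine ⟨s * s', R.mul_mem hs hs'R, he, mul_inv_eq_iff_eq_mul.1 ?_⟩
    have e1 : i * s' * i⁻¹ = s := by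
      rw [hs', show i * (i * s * i⁻¹) * i⁻¹ = (i * i) * s * (i * i)⁻¹ by group, hi]; group
    rw [← conj_mul, ← hs', e1, hcomm s' hs'R s hs]

/-- Frames move by conjugation. -/
theorem Frame.conj {z : G} {R : Subgroup G} {v t s : G} (F : Frame z R v t s) (g : G) :
    Frame (g * z * g⁻¹) (R.map (MulAut.conj g).toMonoidHom) (g * v * g⁻¹) (g * t * g⁻¹) (g * s * g⁻¹) := by
  have hn : ∀ {y}, y ∈ Subgroup.normalizer (R : Set G) →
      g * y * g⁻¹ ∈ Subgroup.normalizer (R.map (MulAut.conj g).toMonoidHom : Set G) := by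
    intro y hy
    rw [Subgroup.mem_normalizer_iff] at hy ⊢
    intro h
    rw [Subgroup.mem_map_equiv, Subgroup.mem_map_equiv, MulAut.conj_symm_apply, MulAut.conj_symm_apply, hy]
    group
  constructor
  · rw [Subgroup.card_map_of_injective (MulAut.conj g).injective, F.card]
  · rintro _ ⟨a, ha, rfl⟩ _ ⟨b, hb, rfl⟩
    rw [← map_mul, F.comm a ha b hb, map_mul]
  · rintro _ ⟨a, ha, rfl⟩
    rw [← map_mul, F.sq a ha, map_one]
  · rw [orderOf_conj', F.v5]
  · rw [orderOf_conj', F.t3]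
  · exact comm_conj F.vt
  · exact hn F.vR
  · exact hn F.tR
  · exact hn F.zR
  · rintro _ ⟨a, ha, rfl⟩ e
    have e' : v * a = a * v := (MulAut.conj g).injective (by rw [map_mul, map_mul]; exact e)
    rw [F.vfix a ha e', map_one]
  · rintro _ ⟨a, ha, rfl⟩ e
    have e' : t * a = a * t := (MulAut.conj g).injective (by rw [map_mul, map_mul]; exact e)
    rw [F.tfix a ha e', map_one]
  · rw [show g * z * g⁻¹ * (g * v * g⁻¹) * (g * z * g⁻¹)⁻¹ = g * (z * v * z⁻¹) * g⁻¹ by group, F.zv]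
    group
  · exact comm_conj F.zt
  · rw [conj_mul, F.s2, mul_one, mul_inv_cancel]
  · exact comm_conj F.sz
  · exact comm_conj F.sv
  · rw [show g * s * g⁻¹ * (g * t * g⁻¹) * (g * s * g⁻¹)⁻¹ = g * (s * t * s⁻¹) * g⁻¹ by group, F.st]
    group

theorem sixty_three : ∀ q : Sixty, q * q * q = 1 → q ≠ 1 →
    q = (1, .r 1) ∨ q = (1, .r 2) := by decide +kernel

theorem sixty_invol : ∀ q : Sixty, q * q = 1 → q ≠ 1 →
    (q * (.r 1, 1) * q⁻¹ = (.r 1, 1)) ∨
    (q * (1, .r 1) * q⁻¹ ≠ (1, .r 1)) ∨ ∃ a : ZMod 5, q = (.sr a, 1) := by decide +kernel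

set_option maxRecDepth 4000 in
theorem sixty_cent_five :
    Fintype.card {q : Sixty // q * (.r 1, 1) = (.r 1, 1) * q} = 30 := by decide +kernel

theorem sixty_shift : ∀ a : ZMod 5,
    ((DihedralGroup.sr 0, 1) : Sixty) = (.sr a, 1) * ((DihedralGroup.r 1, 1) : Sixty) ^ (-a).val := by decide +kernel

theorem sixty_frame : ((.r 1, 1) : Sixty) * (1, .r 1) = (1, .r 1) * (.r 1, 1) ∧
    ((.sr 0, 1) : Sixty) * (.r 1, 1) * ((.sr 0, 1) : Sixty)⁻¹ = ((.r 1, 1) : Sixty)⁻¹ ∧
    ((.sr 0, 1) : Sixty) * (1, .r 1) = (1, .r 1) * (.sr 0, 1) ∧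
    ((1, .sr 0) : Sixty) * (.sr 0, 1) = (.sr 0, 1) * (1, .sr 0) ∧
    ((1, .sr 0) : Sixty) * (.r 1, 1) = (.r 1, 1) * (1, .sr 0) ∧
    ((1, .sr 0) : Sixty) * (1, .r 1) * ((1, .sr 0) : Sixty)⁻¹ = ((1, .r 1) : Sixty)⁻¹ ∧
    ((1, .r 1) : Sixty) ^ 2 = (1, .r 2) ∧ ((1, .r 2) : Sixty) ^ 2 = (1, .r 1) := by decide +kernel

theorem sixty_m : orderOf ((.sr 0, 1) : Sixty) = 2 :=
  two_iff.2 ⟨by decide +kernel, by decide +kernel⟩

theorem exists_frame [Finite G] [IsSimpleGroup G] (h : Setting z Q) :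
    ∃ (R : Subgroup G) (v t s : G), Frame z R v t s := by
  classical
  obtain ⟨w, k, m, N⟩ := exists_ndata h
  obtain ⟨ι, E, hiw, hik⟩ := N.exists_emb h.toCore
  obtain ⟨u, x, R0, d⟩ := exists_rdata h
  obtain ⟨v0, t0, hv0, ht0, hvt0, hvN, htN, hfpf0, i0, hi0, hiN, hiv0, hor⟩ := d.exists_pair_mem
  obtain ⟨g, hg⟩ := N.conj5 v0 hv0
  set c := (MulAut.conj g).toMonoidHom with hc
  have cinj : Function.Injective c := (MulAut.conj g).injective
  have hcval : ∀ y, c y = g * y * g⁻¹ := fun _ => rfl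
  set R := R0.map c with hR
  have hmem : ∀ {y}, y ∈ R0 → c y ∈ R := fun hy => ⟨_, hy, rfl⟩
  have hnorm : ∀ {y}, y ∈ Subgroup.normalizer (R0 : Set G) → c y ∈ Subgroup.normalizer (R : Set G) := by
    intro y hy
    refine Subgroup.mem_normalizer_fintype (h := ?_)
    rintro _ ⟨r, hr, rfl⟩
    exact ⟨y * r * y⁻¹, (Subgroup.mem_normalizer_iff.1 hy r).1 hr, by rw [map_mul, map_mul, map_inv]⟩
  have hcard : Nat.card R = 16 := by rw [hR, Subgroup.card_map_of_injective cinj, d.card]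
  have hcomm : ∀ a ∈ R, ∀ b ∈ R, a * b = b * a := by
    rintro _ ⟨a, ha, rfl⟩ _ ⟨b, hb, rfl⟩
    rw [← map_mul, d.comm a ha b hb, map_mul]
  have hsq : ∀ a ∈ R, a * a = 1 := by
    rintro _ ⟨a, ha, rfl⟩
    rw [← map_mul, d.sq a ha, map_one]
  have hself : ∀ y : G, (∀ r ∈ R, y * r = r * y) → y ∈ R := by
    intro y hy
    refine ⟨(MulAut.conj g).symm y, d.self _ fun r hr => cinj ?_, (MulAut.conj g).apply_symm_apply y⟩
    rw [map_mul, map_mul, show c ((MulAut.conj g).symm y) = y from (MulAut.conj g).apply_symm_apply y]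
    exact hy _ (hmem hr)
  -- the element of order five generates the same group as `w`
  have hv5 : orderOf (c v0) = 5 := by rw [orderOf_injective c cinj, hv0]
  haveI : Fact (Nat.Prime 5) := ⟨by norm_num⟩
  have hzp : Subgroup.zpowers (c v0) = Subgroup.zpowers w := by
    refine Subgroup.eq_of_le_of_card_ge (Subgroup.zpowers_le.2 hg) ?_
    rw [Nat.card_zpowers, Nat.card_zpowers, hv5, N.w5]
  have hwmem : w ∈ Subgroup.zpowers (c v0) := hzp ▸ Subgroup.mem_zpowers w
  have hwR : w ∈ Subgroup.normalizer (R : Set G) := Subgroup.zpowers_le.2 (hnorm hvN) hwmem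
  have hvfix : ∀ r ∈ R, w * r = r * w → r = 1 := by
    rintro _ ⟨r, hr, rfl⟩ hwr
    obtain ⟨j, hj⟩ := (hzp.symm ▸ Subgroup.mem_zpowers (c v0) : c v0 ∈ Subgroup.zpowers w)
    have h1 : Commute (c v0) (c r) := hj ▸ (show Commute w (c r) from hwr).zpow_left j
    have h2 : v0 * r = r * v0 := cinj (by rw [map_mul, map_mul]; exact h1.eq)
    rw [hfpf0 r hr h2, map_one]
  have hwnorm : ∀ r ∈ R, w * r * w⁻¹ ∈ R := fun r hr => (Subgroup.mem_normalizer_iff.1 hwR r).1 hr
  have hout : ∀ y : G, y * w = w * y → y ≠ 1 → y ∈ Subgroup.normalizer (R : Set G) →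
      ∀ r ∈ R, y * r = r * y → r = 1 := by
    intro y hy hy1 hyR r hr hyr
    by_contra hr1
    have hyin := hself y (fix_all hcard N.w5 hwnorm hvfix hy hr hr1 hyr)
    exact hy1 (hvfix y hyin hy.symm)
  -- the centralizer of `w` lies in the model
  have hcentR : ∀ y : G, y * w = w * y → ∃ q, ι q = y := by
    intro y hy
    let f : {q : Sixty // q * (.r 1, 1) = (.r 1, 1) * q} → Subgroup.centralizer ({w} : Set G) :=
      fun q => ⟨ι q.1, mem_cent_iff.2 (by rw [← hiw, ← map_mul, q.2, map_mul])⟩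
    have hf : Function.Injective f := fun a b e => Subtype.ext (E.inj (congrArg Subtype.val e))
    have hb : Function.Bijective f := (Nat.bijective_iff_injective_and_card f).2
      ⟨hf, by rw [N.card, Nat.card_eq_fintype_card, sixty_cent_five]⟩
    obtain ⟨q, hq⟩ := hb.2 ⟨y, mem_cent_iff.2 hy⟩
    exact ⟨q.1, congrArg Subtype.val hq⟩
  obtain ⟨F1, F2, F3, F4, F5, F6, F7, F8⟩ := sixty_frame
  -- the element of order three
  have htw : c t0 * w = w * c t0 := by
    obtain ⟨j, hj⟩ := hwmem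
    rw [← hj]
    exact ((show Commute (c t0) (c v0) from by
      show c t0 * c v0 = c v0 * c t0
      rw [← map_mul, ← map_mul, hvt0]).zpow_right j).eq
  obtain ⟨q1, hq1⟩ := hcentR _ htw
  have ht3 : orderOf (c t0) = 3 := by rw [orderOf_injective c cinj, ht0]
  have hq1c : q1 * q1 * q1 = 1 := E.inj (by
    rw [map_mul, map_mul, hq1, map_one, ← pow_three', ← ht3, pow_orderOf_eq_one])
  have hq11 : q1 ≠ 1 := fun e => by
    rw [e, map_one] at hq1
    rw [← hq1, orderOf_one] at ht3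
    norm_num at ht3
  have hkt : k = c t0 ∨ k = c t0 ^ 2 := by
    rcases sixty_three q1 hq1c hq11 with rfl | rfl
    · exact Or.inl (hik ▸ hq1)
    · right; rw [← hik, ← hq1, ← map_pow, F8]
  have hkR : k ∈ Subgroup.normalizer (R : Set G) := by
    rcases hkt with e | e <;> rw [e]
    · exact hnorm htN
    · exact pow_mem (hnorm htN) 2
  -- the involution
  have hi2 : c i0 * c i0 = 1 := by rw [← map_mul, (two_iff.1 hi0).1, map_one]
  have hi1 : c i0 ≠ 1 := fun e => (two_iff.1 hi0).2 (cinj (by rw [e, map_one]))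
  obtain ⟨ri, hriR, hri1, hrifix⟩ := exists_fixed hcard hcomm hsq hi2 (hnorm hiN)
  have hinc : c i0 * w ≠ w * c i0 := fun e => hri1 (hout _ e hi1 (hnorm hiN) ri hriR hrifix)
  have hiw2 : c i0 * w * (c i0)⁻¹ ∈ Subgroup.zpowers w := by
    obtain ⟨j, hj⟩ := hwmem
    obtain ⟨l, hl⟩ := hiv0
    rw [← hzp, ← hj, ← conj_zpow]
    refine Subgroup.zpow_mem _ ?_ j
    rw [← map_inv, ← map_mul, ← map_mul, ← hl, map_zpow]
    exact Subgroup.zpow_mem_zpowers _ _
  have him : c i0 * w * (c i0)⁻¹ = w⁻¹ := (conj_pow_two N.w5 hi2 hiw2).resolve_left hinc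
  have hm0w : ι (.sr 0, 1) * w * (ι (.sr 0, 1))⁻¹ = w⁻¹ := by
    rw [← hiw, ← map_inv, ← map_inv, ← map_mul, ← map_mul, F2]
  obtain ⟨q2, hq2⟩ : ∃ q, ι q = c i0 := by
    obtain ⟨q, hq⟩ := hcentR (c i0 * ι (.sr 0, 1)) (mul_inv_eq_iff_eq_mul.1 (by
      calc c i0 * ι (.sr 0, 1) * w * (c i0 * ι (.sr 0, 1))⁻¹
          = c i0 * (ι (.sr 0, 1) * w * (ι (.sr 0, 1))⁻¹) * (c i0)⁻¹ := by group
        _ = w := by rw [hm0w, ← conj_inv, him, inv_inv]))
    exact ⟨q * (.sr 0, 1)⁻¹, by rw [map_mul, hq, map_inv, mul_inv_cancel_right]⟩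
  have hik2 : c i0 * k = k * c i0 := by
    have h1 : Commute (c i0) (c t0) := by
      rcases hor with e | e
      · refine absurd ?_ hinc
        obtain ⟨j, hj⟩ := hwmem
        rw [← hj]
        exact ((show Commute (c i0) (c v0) from by
          show c i0 * c v0 = c v0 * c i0
          rw [← map_mul, ← map_mul, e]).zpow_right j).eq
      · show c i0 * c t0 = c t0 * c i0
        rw [← map_mul, ← map_mul, e]
    rcases hkt with e | e <;> rw [e]
    · exact h1.eq
    · exact (h1.pow_right 2).eq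
  have hm0R : ι (.sr 0, 1) ∈ Subgroup.normalizer (R : Set G) := by
    rcases sixty_invol q2 (E.inj (by rw [map_mul, hq2, hi2, map_one]))
      (fun e => hi1 (by rw [← hq2, e, map_one])) with e | e | ⟨a, ha⟩
    · exfalso
      refine hinc (mul_inv_eq_iff_eq_mul.1 ?_)
      rw [← hq2, ← hiw, ← map_inv, ← map_mul, ← map_mul, e]
    · refine absurd (E.inj ?_) e
      rw [map_mul, map_mul, map_inv, hq2, hik, hik2, mul_inv_cancel_right]
    · rw [sixty_shift a, ← ha, map_mul, map_pow, hq2, hiw]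
      exact mul_mem (hnorm hiN) (pow_mem hwR _)
  -- the frame at `ι (sr 0, 1)`, then moved to `z`
  have hm0 : orderOf (ι (.sr 0, 1)) = 2 := by
    rw [orderOf_injective ι E.inj]
    exact sixty_m
  obtain ⟨g2, hg2⟩ := isConj_iff.1 (h.one _ hm0)
  have hkfix : ∀ r ∈ R, k * r = r * k → r = 1 :=
    hout k N.wk.symm (fun e => by
      have h3 := N.k3
      rw [e, orderOf_one] at h3
      norm_num at h3) hkR
  have F0 : Frame (ι (.sr 0, 1)) R w k z :=
    { card := hcard, comm := hcomm, sq := hsq, v5 := N.w5, t3 := N.k3, vt := N.wk, vR := hwR, tR := hkR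
      zR := hm0R, vfix := hvfix, tfix := hkfix, zv := hm0w
      zt := by rw [← hik, ← map_mul, F3, map_mul]
      s2 := h.toCore.z_sq
      sz := by rw [← E.iz, ← map_mul, F4, map_mul]
      sv := N.wz.symm
      st := N.zk }
  refine ⟨_, _, _, _, hg2 ▸ F0.conj g2⟩

end Cfsg.Agent.Invol.J3Type.LTwoSixteen
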