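import Mathlib

/-!
# Two word computations

A commuting family of five involutions with trivial product cannot be braided with one involution,
and the five-th power of a product is written through conjugates of a cube.
-/

set_option autoImplicit false

namespace Cfsg.Agent.Invol.J3Type.LTwoSixteen

variable {G : Type*} [Group G]

/-- The conjugate of a product of two braided commuting involutions commutes with the product. -/
theorem pair_commute {a b W : G} (ha : a * a = 1) (hW : W * W = 1) (hab : a * b = b * a)
    (hbraidA : W * a * W = a * W * a) (hbraidB : W * b * W = b * W * b) :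
    Commute (W * (a * b) * W) (a * b) := by
  have e1 : W * (a * b) * W = a * W * (a * b) * W * b := by
    calc W * (a * b) * W = (W * a * W) * (W * b * W) := by
          rw [mul_assoc W a W, ← mul_assoc (W * (a * W)) (W * b) W, mul_assoc W (a * W) (W * b),
            mul_assoc a W (W * b), ← mul_assoc W W b, hW, one_mul, mul_assoc]
      _ = a * W * (a * b) * W * b := by rw [hbraidA, hbraidB]; group
  have e2 : W * (a * b) * W = b * W * (a * b) * W * a := by
    calc W * (a * b) * W = W * (b * a) * W := by rw [hab]
      _ = (W * b * W) * (W * a * W) := by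
          rw [mul_assoc W b W, ← mul_assoc (W * (b * W)) (W * a) W, mul_assoc W (b * W) (W * a),
            mul_assoc b W (W * a), ← mul_assoc W W a, hW, one_mul, mul_assoc]
      _ = b * W * (b * a) * W * a := by rw [hbraidA, hbraidB]; group
      _ = b * W * (a * b) * W * a := by rw [hab]
  have hd : ∀ c : G, c = W * (a * b) * W → a * c * b = b * c * a := by
    intro c hc
    calc a * c * b = a * (W * (a * b) * W) * b := by rw [hc]
      _ = a * W * (a * b) * W * b := by group
      _ = b * W * (a * b) * W * a := by rw [← e1, e2]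
      _ = b * (W * (a * b) * W) * a := by group
      _ = b * c * a := by rw [hc]
  set c := W * (a * b) * W with hc
  have h := hd c rfl
  show c * (a * b) = a * b * c
  calc c * (a * b) = c * (b * a) := by rw [hab]
    _ = a * (a * c * b) * a := by simp only [← mul_assoc, ha, one_mul]
    _ = a * (b * c * a) * a := by rw [h]
    _ = a * b * c * (a * a) := by simp only [mul_assoc]
    _ = a * b * c := by rw [ha, mul_one]

/-- Three commuting involutions and the two others of a five-family. -/
theorem star {W u0 u1 u2 u3 u4 : G} (hW : W * W = 1) (s0 : u0 * u0 = 1) (s1 : u1 * u1 = 1)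
    (s2 : u2 * u2 = 1) (s3 : u3 * u3 = 1) (s4 : u4 * u4 = 1)
    (c01 : u0 * u1 = u1 * u0) (c02 : u0 * u2 = u2 * u0) (c12 : u1 * u2 = u2 * u1) (c34 : u3 * u4 = u4 * u3)
    (b0 : W * u0 * W = u0 * W * u0) (b1 : W * u1 * W = u1 * W * u1) (b2 : W * u2 * W = u2 * W * u2)
    (b3 : W * u3 * W = u3 * W * u3) (b4 : W * u4 * W = u4 * W * u4)
    (hprod : u0 * u1 * u2 * (u3 * u4) = 1) : u0 = u1 := by
  set r := u0 * u1 * u2 with hr
  have hr34 : r = u3 * u4 := by
    have h1 : (u3 * u4) * (u3 * u4) = 1 := by
      calc u3 * u4 * (u3 * u4) = u3 * u4 * (u4 * u3) := by rw [c34]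
        _ = 1 := by rw [← mul_assoc, mul_assoc u3, s4, mul_one, s3]
    exact mul_right_cancel (hprod.trans h1.symm)
  have hrW : Commute (W * r * W) r := by rw [hr34]; exact pair_commute s3 hW c34 b3 b4
  have h0 : Commute u0 r := (Commute.refl u0).mul_right c01 |>.mul_right c02
  have h1 : Commute u1 r := (Commute.mul_right c01.symm (Commute.refl u1)).mul_right c12
  have h2 : Commute u2 r := (Commute.mul_right c02.symm c12.symm).mul_right (Commute.refl u2)
  have k0 : u0 * r = u1 * u2 := by rw [hr, ← mul_assoc, ← mul_assoc, s0, one_mul]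
  have k1 : u1 * r = u0 * u2 := by
    rw [hr, ← mul_assoc, ← mul_assoc, ← c01, mul_assoc u0, s1, mul_one]
  have k2 : u2 * r = u0 * u1 := by rw [h2.eq, hr, mul_assoc, s2, mul_one]
  have conjW : ∀ c : G, c * c = 1 → Commute (W * c * W) c → Commute (c * W * c) W := by
    intro c hc hcom
    show c * W * c * W = W * (c * W * c)
    calc c * W * c * W = c * (W * c * W) := by group
      _ = (W * c * W) * c := hcom.eq.symm
      _ = W * (c * W * c) := by group
  have inv2 : ∀ p q : G, p * p = 1 → q * q = 1 → p * q = q * p → (p * q) * (p * q) = 1 := by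
    intro p q hp hq hpq
    nth_rewrite 2 [hpq]
    rw [← mul_assoc, mul_assoc p, hq, mul_one, hp]
  have y0 := conjW _ (inv2 _ _ s1 s2 c12) (pair_commute s1 hW c12 b1 b2)
  have y1 := conjW _ (inv2 _ _ s0 s2 c02) (pair_commute s0 hW c02 b0 b2)
  have y2 := conjW _ (inv2 _ _ s0 s1 c01) (pair_commute s0 hW c01 b0 b1)
  have hr2 : r * r = 1 := by
    rw [hr34]; exact inv2 _ _ s3 s4 c34
  have hz : ∀ u : G, W * u * W = u * W * u → Commute u r →
      r * (W * u * W) * r = u * r * W * (u * r) := by
    intro u hb hu
    rw [hb]
    calc r * (u * W * u) * r = (r * u) * W * (u * r) := by group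
      _ = u * r * W * (u * r) := by rw [hu.eq]
  have e : r * (W * r * W) * r = (r * (W * u0 * W) * r) * (r * (W * u1 * W) * r) * (r * (W * u2 * W) * r) := by
    have hWW : ∀ x : G, W * (W * x) = x := fun x => by rw [← mul_assoc, hW, one_mul]
    have hrr : ∀ x : G, r * (r * x) = x := fun x => by rw [← mul_assoc, hr2, one_mul]
    simp only [mul_assoc, hrr, hWW]
    simp only [hr, mul_assoc]
  rw [hz _ b0 h0, hz _ b1 h1, hz _ b2 h2, k0, k1, k2, mul_assoc r (W * r * W) r, hrW.eq,
    ← mul_assoc, hr2, one_mul] at e
  have hcom : Commute (W * r * W) W := by rw [e]; exact (y0.mul_left y1).mul_left y2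
  have hrWc : Commute r W := by
    show r * W = W * r
    calc r * W = W * (W * r * W) := by rw [← mul_assoc, ← mul_assoc, hW, one_mul]
      _ = (W * r * W) * W := hcom.eq.symm
      _ = W * r := by rw [mul_assoc, hW, mul_one]
  have fin : ∀ u : G, u * u = 1 → W * u * W = u * W * u → Commute u r →
      Commute (u * r * W * (u * r)) W → u = W := by
    intro u hu hb hur hY
    have e1 : u * r * W * (u * r) = u * W * u := by
      calc u * r * W * (u * r) = u * (r * W) * (u * r) := by group
        _ = u * (r * W) * (r * u) := by rw [hur.eq]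
        _ = u * (W * (r * r)) * u := by rw [hrWc.eq]; group
        _ = u * W * u := by rw [hr2, mul_one]
    rw [e1, ← hb] at hY
    have e2 : u * W = W * u := by
      calc u * W = W * (W * u * W) := by rw [← mul_assoc, ← mul_assoc, hW, one_mul]
        _ = (W * u * W) * W := hY.eq.symm
        _ = W * u := by rw [mul_assoc, hW, mul_one]
    calc u = W * u * W := by rw [mul_assoc, e2, ← mul_assoc, hW, one_mul]
      _ = u * W * u := hb
      _ = W := by rw [e2, mul_assoc, hu, mul_one]
  rw [fin u0 s0 b0 h0 (by rw [k0]; exact y0), fin u1 s1 b1 h1 (by rw [k1]; exact y1)]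

/-- The fifth power of `t u t⁻¹ w` through the conjugates of `e = (w u)³`. -/
theorem five_word {u w t e : G} (hu : u * u = 1) (ht : t * t * t = 1) (hw : w * w = 1)
    (hwt : w * t = t * t * w) (hut : u * t * u * t * u * t = 1) (he : w * u * w = e * (u * w * u)) :
    (t * u * (t * t) * w) ^ 5 =
      (t * u * t) * e * (t * u * t)⁻¹ * ((u * t) * e * (u * t)⁻¹) * ((t * t * u) * e * (t * t * u)⁻¹) := by
  set T := t * t with hT
  have tT : t * T = 1 := by rw [hT, ← mul_assoc, ht]
  have Tt : T * t = 1 := ht
  have TT : T * T = t := by rw [hT, mul_assoc, ← mul_assoc t t t, ht, mul_one]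
  have tinv : t⁻¹ = T := inv_eq_of_mul_eq_one_right tT
  have uinv : u⁻¹ = u := inv_eq_of_mul_eq_one_right hu
  have hwT : w * T = t * w := by
    calc w * T = w * t * t := by rw [hT, mul_assoc]
      _ = T * (w * t) := (congrArg (fun x => x * t) hwt).trans (mul_assoc _ _ _)
      _ = t * w := by rw [hwt, ← mul_assoc, TT]
  have utu : u * t * u = T * u * T := by
    have h : (u * t * u) * (t * u * t) = 1 := by rw [← hut]; group
    rw [eq_inv_of_mul_eq_one_left h, mul_inv_rev, mul_inv_rev, tinv, uinv]
    group
  have tutu : t * u * t * u = u * T := by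
    calc t * u * t * u = t * (u * t * u) := by group
      _ = (t * T) * u * T := by rw [utu]; group
      _ = u * T := by rw [tT, one_mul]
  have uTuT : u * T * u * T = t * u := by
    calc u * T * u * T = u * (T * u * T) := by group
      _ = (u * u) * (t * u) := by rw [← utu]; group
      _ = t * u := by rw [hu, one_mul]
  have Tw : T * w = w * t := hwt.symm
  have tw : t * w = w * T := hwT.symm
  have m1 : w * (t * u * T) * w = T * (e * (u * w * u)) * t := by
    calc w * (t * u * T) * w = (w * t) * u * (T * w) := by group
      _ = (T * w) * u * (w * t) := congrArg₂ (fun x y => x * u * y) hwt Tw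
      _ = T * (w * u * w) * t := by group
      _ = T * (e * (u * w * u)) * t := by rw [he]
  have m2 : w * (t * u) * w = T * (e * (u * w * u)) := by
    calc w * (t * u) * w = (w * t) * u * w := by group
      _ = T * (w * u * w) := by rw [hwt]; group
      _ = T * (e * (u * w * u)) := by rw [he]
  have m3 : w * (T * u * t) * w = t * (e * (u * w * u)) * T := by
    calc w * (T * u * t) * w = (w * T) * u * (t * w) := by group
      _ = (t * w) * u * (w * T) := congrArg₂ (fun x y => x * u * y) hwT tw
      _ = t * (w * u * w) * T := by group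
      _ = t * (e * (u * w * u)) * T := by rw [he]
  set a := t * u * T with ha
  set C1 := (t * u * t) * e * (t * u * t)⁻¹ with hC1
  set C2 := (u * t) * e * (u * t)⁻¹ with hC2
  set C3 := (T * u) * e * (T * u)⁻¹ with hC3
  have g1 : a * T = t * u * t := by rw [ha, mul_assoc _ T T, TT]
  have g2 : u * t * a = t * u := by
    calc u * t * a = u * (t * t) * u * T := by rw [ha]; group
      _ = t * u := by rw [← hT, uTuT]
  have g3 : u * a = T * u * t := by
    calc u * a = (u * t * u) * T := by rw [ha]; group
      _ = T * u * (T * T) := by rw [utu]; group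
      _ = T * u * t := by rw [TT]
  have g4 : T * a = u * T := by
    calc T * a = (T * t) * u * T := by rw [ha]; group
      _ = u * T := by rw [Tt, one_mul]
  calc (a * w) ^ 5 = a * (w * a * w) * (a * w * a * w * a * w) := by
        simp only [pow_succ, pow_zero, one_mul]; group
    _ = (a * T) * e * u * w * (u * t * a) * w * a * w * a * w := by rw [m1]; group
    _ = C1 * ((t * u * t * u) * (w * (t * u) * w) * a * w * a * w) := by
        rw [g1, g2, hC1]; group
    _ = C1 * (u * (T * T) * e * u * w * (u * a) * w * a * w) := by rw [tutu, m2]; group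
    _ = C1 * (C2 * ((u * t * u) * (w * (T * u * t) * w) * a * w)) := by rw [TT, g3, hC2]; group
    _ = C1 * (C2 * (T * u * (T * t) * e * u * w * u * (T * a) * w)) := by rw [utu, m3]; group
    _ = C1 * (C2 * (C3 * ((T * (u * u)) * w * (u * u) * T * w))) := by rw [Tt, g4, hC3]; group
    _ = C1 * (C2 * C3) := by
        rw [hu, mul_one, mul_one, mul_assoc T w T, hwT, ← mul_assoc T t, Tt, one_mul, hw, mul_one]
    _ = C1 * C2 * C3 := (mul_assoc _ _ _).symm

end Cfsg.Agent.Invol.J3Type.LTwoSixteen
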