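import Cfsg.Agent.Lib.Invol.J3Type.LTwoSixteen.Frame
import Cfsg.Agent.Lib.Invol.J3Type.LTwoSixteen.Words
import Cfsg.Agent.Lib.Invol.J3Type.LTwoSixteen.A5Facts

/-!
# The rank one relation
-/

set_option autoImplicit false
set_option linter.unusedSectionVars false
set_option linter.style.haveILetI false

namespace Cfsg.Agent.Invol.J3Type.LTwoSixteen

open Cfsg Cfsg.Agent.Invol.HJ

universe u

variable {G : Type u} [Group G] {z v t s : G} {Q R : Subgroup G}

theorem Frame.t_pow (F : Frame z R v t s) : t * t * t = 1 := by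
  rw [← pow_three', ← F.t3, pow_orderOf_eq_one]

theorem Frame.conjR (F : Frame z R v t s) {g m : G} (hg : g ∈ Subgroup.normalizer (R : Set G)) (hm : m ∈ R) :
    g * m * g⁻¹ ∈ R := (Subgroup.mem_normalizer_iff.1 hg m).1 hm

/-- The fixed points of `z` in `R` with the action of `t`. -/
theorem Frame.exists_four [Finite G] (F : Frame z R v t s) (h : Core z Q) (M : Model z Q) :
    ∃ u ∈ R, u ≠ 1 ∧ z * u = u * z ∧
      t * (t * u * t⁻¹) * t⁻¹ = u * (t * u * t⁻¹) ∧ u ∉ Q ∧ u * (t * u * t⁻¹) ∉ Q := by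
  obtain ⟨u, huR, hu1, hzu⟩ := exists_fixed F.card F.comm F.sq h.z_sq F.zR
  set a := t * u * t⁻¹ with ha
  set b := t * a * t⁻¹ with hb
  have haR : a ∈ R := F.conjR F.tR huR
  have hbR : b ∈ R := F.conjR F.tR haR
  have tbt : t * b * t⁻¹ = u := by
    calc t * b * t⁻¹ = (t * t * t) * u * (t * t * t)⁻¹ := by rw [hb, ha]; group
      _ = u := by rw [F.t_pow]; group
  have hprod : u * a * b = 1 := by
    refine F.tfix _ (R.mul_mem (R.mul_mem huR haR) hbR) (mul_inv_eq_iff_eq_mul.1 ?_)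
    calc t * (u * a * b) * t⁻¹ = a * b * (t * b * t⁻¹) := by rw [hb, ha]; group
      _ = u * (a * b) := by rw [tbt, F.comm _ (R.mul_mem haR hbR) _ huR]
      _ = u * a * b := (mul_assoc _ _ _).symm
  have hbua : b = u * a := by
    rw [eq_comm, ← inv_eq_of_mul_eq_one_right hprod, eq_inv_iff_mul_eq_one]
    exact F.sq _ (R.mul_mem huR haR)
  have hza : z * a = a * z := (show Commute z t from F.zt).mul_right hzu |>.mul_right
    ((show Commute z t from F.zt).inv_right) |>.eq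
  have haC : a ∈ Subgroup.centralizer ({z} : Set G) := mem_cent_iff.2 hza.symm
  have htC : t ∈ Subgroup.centralizer ({z} : Set G) := mem_cent_iff.2 F.zt.symm
  have hne : a ≠ u := fun e => hu1 (F.tfix u huR (mul_inv_eq_iff_eq_mul.1 (ha ▸ e)))
  have huQ : u ∉ Q := by
    intro huQ
    have haQ : a ∈ Q := h.norm t htC u huQ
    have hzR : z ∉ R := fun e => h.ne_one (F.tfix z e F.zt.symm)
    have hX : ∀ y ∈ R, y ≠ 1 → y ∈ Q → y ∈ nonCentralInvol z Q :=
      fun y hy hy1 hyQ => ⟨hyQ, F.sq y hy, hy1, fun e => hzR (e ▸ hy)⟩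
    obtain ⟨i, hi⟩ := M.cover u (hX u huR hu1 huQ)
    obtain ⟨j, hj⟩ := M.cover a (hX a haR (fun e => hu1 (conj_eq_one_iff.1 e)) haQ)
    have hij : i = j := by
      by_contra hij
      refine M.anti i j hij ?_
      have hc : Commute u a := F.comm u huR a haR
      have h1 : Commute (M.a i) a := by
        rcases hi with e | e
        · rwa [e] at hc
        · have hz : Commute (z * u) a := (show Commute z a from hza).mul_left hc
          rwa [e, ← mul_assoc, h.z_sq, one_mul] at hz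
      rcases hj with e | e
      · rw [e] at h1; exact h1.eq
      · have h2 : Commute (M.a i) (z * a) := (show Commute (M.a i) z from h.zq (M.mem i).1).mul_right h1
        rw [e, ← mul_assoc, h.z_sq, one_mul] at h2
        exact h2.eq
    subst hij
    rcases hi with e1 | e1 <;> rcases hj with e2 | e2
    · exact hne (e2.trans e1.symm)
    · exact hzR (by
        have : z = a * u := by rw [e1, e2, mul_assoc, (M.mem i).2.1, mul_one]
        exact this ▸ R.mul_mem haR huR)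
    · exact hzR (by
        have : z = u * a := by rw [e1, e2, mul_assoc, (M.mem i).2.1, mul_one]
        exact this ▸ R.mul_mem huR haR)
    · exact hne (e2.trans e1.symm)
  refine ⟨u, huR, hu1, hzu, hbua, huQ, fun e => huQ ?_⟩
  rw [← hbua] at e
  exact tbt ▸ h.norm t htC b e

/-- The braid relation between a point of `R` fixed by `z` and `z * s`. -/
theorem Frame.relation_fix [Finite G] (F : Frame z R v t s) (h : Core z Q) :
    ∃ u ∈ R, u ≠ 1 ∧ z * u = u * z ∧ t * (t * u * t⁻¹) * t⁻¹ = u * (t * u * t⁻¹) ∧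
      (z * s) * u * (z * s) = u * (z * s) * u := by
  classical
  obtain ⟨M⟩ := h.model
  obtain ⟨u0, hu0R, hu01, hzu0, hb0, hu0Q, hb0Q⟩ := F.exists_four h M
  set C := Subgroup.centralizer ({z} : Set G)
  set w := z * s with hw
  have hw2 : w * w = 1 := by
    calc w * w = z * (s * z) * s := by rw [hw]; group
      _ = (z * z) * (s * s) := by rw [F.sz]; group
      _ = 1 := by rw [h.z_sq, F.s2, one_mul]
  have hwt : w * t * w⁻¹ = t⁻¹ := by
    calc w * t * w⁻¹ = z * (s * t * s⁻¹) * z⁻¹ := by rw [hw]; group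
      _ = t⁻¹ := by rw [F.st, ((show Commute z t from F.zt).inv_right).eq, mul_inv_cancel_right]
  have hwt' : w * t = t * t * w := by
    rw [mul_inv_eq_iff_eq_mul.1 hwt, inv_eq_of_mul_eq_one_left F.t_pow]
  have htC : t ∈ C := mem_cent_iff.2 F.zt.symm
  have hwC : w ∈ C := mem_cent_iff.2 (by
    rw [hw, mul_assoc, F.sz])
  set τ := M.ptA ⟨t, htC⟩ with hτ
  set ω := M.ptA ⟨w, hwC⟩ with hω
  have hτ3 : τ * τ * τ = 1 := by
    rw [hτ, ← map_mul, ← map_mul, M.ptA_ker]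
    show t * t * t ∈ Q
    rw [F.t_pow]; exact Q.one_mem
  have hτ1 : τ ≠ 1 := fun e => prime_not_mem h Nat.prime_three (by norm_num) F.t3 ((M.ptA_ker _).1 e)
  have hω2 : ω * ω = 1 := by
    rw [hω, ← map_mul, M.ptA_ker]
    show w * w ∈ Q
    rw [hw2]; exact Q.one_mem
  have hωτ : ω * τ * ω⁻¹ = τ⁻¹ := by
    rw [hω, hτ, ← map_inv, ← map_inv, ← map_mul, ← map_mul]
    exact congrArg M.ptA (Subtype.ext hwt)
  set a0 := t * u0 * t⁻¹ with ha0
  set b0 := t * a0 * t⁻¹ with hb0'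
  have ha0R : a0 ∈ R := F.conjR F.tR hu0R
  have hu0C : u0 ∈ C := mem_cent_iff.2 hzu0.symm
  set μ := M.ptA ⟨u0, hu0C⟩ with hμ
  have hμ2 : μ * μ = 1 := by
    rw [hμ, ← map_mul, M.ptA_ker]
    show u0 * u0 ∈ Q
    rw [F.sq u0 hu0R]; exact Q.one_mem
  have hμ1 : μ ≠ 1 := fun e => hu0Q ((M.ptA_ker _).1 e)
  have eaτ : τ * μ * τ⁻¹ = M.ptA ⟨a0, mul_mem (mul_mem htC hu0C) (inv_mem htC)⟩ := by
    rw [hμ, hτ, ← map_inv, ← map_mul, ← map_mul]; rfl
  have hne : τ * μ * τ⁻¹ ≠ μ := fun e => hb0Q (by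
    have e1 : μ * (τ * μ * τ⁻¹) = 1 := by rw [e, hμ2]
    rw [eaτ, hμ, ← map_mul, M.ptA_ker] at e1
    exact e1)
  have hcom : μ * (τ * μ * τ⁻¹) = τ * μ * τ⁻¹ * μ := by
    rw [eaτ, hμ, ← map_mul, ← map_mul]
    exact congrArg M.ptA (Subtype.ext (F.comm u0 hu0R a0 ha0R))
  -- one of the three points gives a product of order three
  have key : ∀ (u : G) (huR : u ∈ R) (huC : u ∈ C), (M.ptA ⟨u, huC⟩ ≠ 1) →
      τ * M.ptA ⟨u, huC⟩ * τ⁻¹ ≠ M.ptA ⟨u, huC⟩ →
      M.ptA ⟨u, huC⟩ * (τ * M.ptA ⟨u, huC⟩ * τ⁻¹) = τ * M.ptA ⟨u, huC⟩ * τ⁻¹ * M.ptA ⟨u, huC⟩ →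
      (ω * M.ptA ⟨u, huC⟩) ^ 3 = 1 → u * t * u * t * u * t = 1 → w * u * w = u * w * u := by
    intro u huR huC n1 n2 n3 n4 hut
    set ν := M.ptA ⟨u, huC⟩ with hν
    have hu2 : u * u = 1 := F.sq u huR
    have hν2 : ν * ν = 1 := by
      rw [hν, ← map_mul, M.ptA_ker]
      show u * u ∈ Q
      rw [hu2]; exact Q.one_mem
    obtain ⟨-, h5, h51⟩ := a5_five τ hτ3 hτ1 ν hν2 n1 n2 n3 ω hω2 hωτ n4
    set e := (w * u) ^ 3 with he
    have he' : w * u * w = e * (u * w * u) := by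
      calc w * u * w = (w * u) * (w * u) * (w * (u * u) * w) * (u * u) * u⁻¹ := by
            simp only [hu2, mul_one, hw2]; group
        _ = e * (u * w * u) * (u * u⁻¹) := by rw [he]; simp only [pow_succ, pow_zero, one_mul]; group
        _ = e * (u * w * u) := by rw [mul_inv_cancel, mul_one]
    have heQ : e ∈ Q := by
      have h1 : M.ptA ((⟨w, hwC⟩ * ⟨u, huC⟩ : C) ^ 3) = 1 := by rw [map_pow, map_mul]; exact n4
      exact (M.ptA_ker _).1 h1
    have hfive := five_word hu2 F.t_pow hw2 hwt' hut he'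
    set P1 : C := ⟨t, htC⟩ * ⟨u, huC⟩ * ⟨t, htC⟩ with hP1
    set P2 : C := ⟨u, huC⟩ * ⟨t, htC⟩ with hP2
    set P3 : C := ⟨t, htC⟩ * ⟨t, htC⟩ * ⟨u, huC⟩ with hP3
    set g : C := ⟨t, htC⟩ * ⟨u, huC⟩ * (⟨t, htC⟩ * ⟨t, htC⟩) * ⟨w, hwC⟩ with hg
    have hgv : (g : G) = t * u * (t * t) * w := rfl
    have hgp : M.ptA g = τ * ν * (τ * τ) * ω := by rw [hg, map_mul, map_mul, map_mul, map_mul]
    have hg5 : (g : G) ^ 5 ∈ Q := by
      have h1 : M.ptA (g ^ 5) = 1 := by rw [map_pow, hgp, h5]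
      exact (M.ptA_ker _).1 h1
    have hgx : ∀ i, M.vec ((g : G) ^ 5) (M.pt g i) = M.vec ((g : G) ^ 5) i := by
      intro i
      have h1 := M.vec_conj h g hg5 i
      rwa [(Commute.self_pow (g : G) 5).eq, mul_inv_cancel_right] at h1
    have hzero : M.vec ((g : G) ^ 5) = 0 :=
      a5_five_fixed (M.ptA g) (by rw [hgp, h5]) (by rw [hgp]; exact h51) _ (M.vec_even h hg5)
        (fun i => by rw [M.ptA_coe]; exact hgx i)
    have hPc : ∀ P : C, (P : G) * e * (P : G)⁻¹ ∈ Q := fun P => h.norm _ P.2 _ heQ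
    have hvP : ∀ (P : C) i, M.vec ((P : G) * e * (P : G)⁻¹) i = M.vec e ((M.ptA P)⁻¹.1 i) := by
      intro P i
      have h1 := M.vec_conj h P heQ ((M.ptA P)⁻¹.1 i)
      have h2 : M.pt P ((M.ptA P)⁻¹.1 i) = i := by
        rw [← M.ptA_coe, ← Equiv.Perm.mul_apply, ← Subgroup.coe_mul, mul_inv_cancel]
        rfl
      rwa [h2] at h1
    have hsum : ∀ i, M.vec e ((M.ptA P1)⁻¹.1 i) + M.vec e ((M.ptA P2)⁻¹.1 i) + M.vec e ((M.ptA P3)⁻¹.1 i) = 0 := by
      intro i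
      rw [← hvP, ← hvP, ← hvP, ← Pi.add_apply, ← M.vec_mul h (hPc P1) (hPc P2), ← Pi.add_apply,
        ← M.vec_mul h (Q.mul_mem (hPc P1) (hPc P2)) (hPc P3)]
      have hv : (g : G) ^ 5 = (P1 : G) * e * (P1 : G)⁻¹ * ((P2 : G) * e * (P2 : G)⁻¹) * ((P3 : G) * e * (P3 : G)⁻¹) :=
        hgv ▸ hfive
      rw [← hv, hzero]; rfl
    have hfix : ∀ (c : C), (c : G) * e * (c : G)⁻¹ = e⁻¹ → ∀ i, M.vec e ((M.ptA c).1 i) = M.vec e i := by
      intro c hc i
      have h1 := M.vec_conj h c heQ i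
      rwa [hc, M.vec_inv h heQ, ← M.ptA_coe] at h1
    have hinv : e⁻¹ = (u * w) ^ 3 := by
      rw [he, ← inv_pow, mul_inv_rev, inv_eq_of_mul_eq_one_right hu2, inv_eq_of_mul_eq_one_right hw2]
    have hue : u * e * u⁻¹ = e⁻¹ := by
      rw [hinv, he, ← conj_pow, ← mul_assoc, mul_assoc (u * w), mul_inv_cancel, mul_one]
    have hwe : w * e * w⁻¹ = e⁻¹ := by
      rw [hinv, he, ← conj_pow, ← mul_assoc, hw2, one_mul, inv_eq_of_mul_eq_one_right hw2]
    have hvec : M.vec e = 0 :=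
      a5_vector τ hτ3 hτ1 ν hν2 n1 n2 n3 ω hω2 hωτ n4 _ (M.vec_even h heQ)
        (hfix ⟨u, huC⟩ hue) (hfix ⟨w, hwC⟩ hwe) (fun i => by
          have := hsum i
          simpa only [hP1, hP2, hP3, map_mul] using this)
    rcases (M.vec_basic h).2 e heQ hvec with e1 | e1
    · rw [he', e1, one_mul]
    · exfalso
      -- the other lift centralizes the element of order five
      have hzu : Commute u z := mem_cent_iff.1 huC
      have hzw : z * w = s := by rw [hw, ← mul_assoc, h.z_sq, one_mul]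
      have hsu : s * u * s = u * s * u := by
        calc s * u * s = z * w * u * (z * w) := by rw [hzw]
          _ = z * w * (u * z) * w := by group
          _ = z * w * (z * u) * w := by rw [hzu.eq]
          _ = z * (w * z) * u * w := by group
          _ = (z * z) * (w * u * w) := by rw [(mem_cent_iff.1 hwC : w * z = z * w)]; group
          _ = z * (u * w * u) := by rw [h.z_sq, one_mul, he', e1]
          _ = (z * u) * w * u := by group
          _ = u * (z * w) * u := by rw [← hzu.eq]; group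
          _ = u * s * u := by rw [hzw]
      let f : ℕ → G := fun j => v ^ j * u * (v ^ j)⁻¹
      have hfR : ∀ j, f j ∈ R := fun j => F.conjR (pow_mem F.vR j) huR
      have hf2 : ∀ j, f j * f j = 1 := fun j => F.sq _ (hfR j)
      have hfb : ∀ j, s * f j * s = f j * s * f j := by
        intro j
        have hsv : v ^ j * s * (v ^ j)⁻¹ = s := by
          rw [← ((show Commute s v from F.sv).pow_right j).eq, mul_inv_cancel_right]
        calc s * f j * s = (v ^ j * s * (v ^ j)⁻¹) * f j * (v ^ j * s * (v ^ j)⁻¹) := by rw [hsv]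
          _ = v ^ j * (s * u * s) * (v ^ j)⁻¹ := by simp only [f]; group
          _ = f j * (v ^ j * s * (v ^ j)⁻¹) * f j := by rw [hsu]; simp only [f]; group
          _ = f j * s * f j := by rw [hsv]
      have hstep : ∀ j, v * f j * v⁻¹ = f (j + 1) := fun j => by simp only [f, pow_succ']; group
      have hf5 : f 5 = f 0 := by simp only [f]; rw [← F.v5, pow_orderOf_eq_one, pow_zero]
      have hcm : ∀ i j, f i * f j = f j * f i := fun i j => F.comm _ (hfR i) _ (hfR j)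
      set p := f 0 * f 1 * f 2 * (f 3 * f 4) with hp
      have hpR : p ∈ R := R.mul_mem (R.mul_mem (R.mul_mem (hfR 0) (hfR 1)) (hfR 2)) (R.mul_mem (hfR 3) (hfR 4))
      have hprod : p = 1 := by
        refine F.vfix p hpR (mul_inv_eq_iff_eq_mul.1 ?_)
        calc v * p * v⁻¹ = (v * f 0 * v⁻¹) * (v * f 1 * v⁻¹) * (v * f 2 * v⁻¹) * (v * f 3 * v⁻¹) *
              (v * f 4 * v⁻¹) := by rw [hp]; group
          _ = (f 1 * f 2 * f 3 * f 4) * f 0 := by
              rw [hstep 0, hstep 1, hstep 2, hstep 3, hstep 4, hf5]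
          _ = f 0 * (f 1 * f 2 * f 3 * f 4) :=
              F.comm _ (R.mul_mem (R.mul_mem (R.mul_mem (hfR 1) (hfR 2)) (hfR 3)) (hfR 4)) _ (hfR 0)
          _ = p := by rw [hp]; group
      have h01 := star F.s2 (hf2 0) (hf2 1) (hf2 2) (hf2 3) (hf2 4) (hcm 0 1) (hcm 0 2) (hcm 1 2) (hcm 3 4)
        (hfb 0) (hfb 1) (hfb 2) (hfb 3) (hfb 4) hprod
      have hu1 : u = 1 := F.vfix u huR (mul_inv_eq_iff_eq_mul.1 (by simpa [f] using h01.symm))
      exact n1 ((M.ptA_ker _).2 (by rw [show ((⟨u, huC⟩ : C) : G) = 1 from hu1]; exact Q.one_mem))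
  have hut : ∀ u ∈ R, t * (t * u * t⁻¹) * t⁻¹ = u * (t * u * t⁻¹) → u * t * u * t * u * t = 1 := by
    intro u hu hb
    have h1 : u * (t * u * t⁻¹) * (t * (t * u * t⁻¹) * t⁻¹) = 1 := by
      rw [hb, F.sq _ (R.mul_mem hu (F.conjR F.tR hu))]
    calc u * t * u * t * u * t = u * (t * u * t⁻¹) * (t * (t * u * t⁻¹) * t⁻¹) * (t * t * t) := by group
      _ = 1 := by rw [h1, F.t_pow, one_mul]
  have step : ∀ u ∈ R, t * (t * u * t⁻¹) * t⁻¹ = u * (t * u * t⁻¹) →
      t * (t * (t * u * t⁻¹) * t⁻¹) * t⁻¹ = (t * u * t⁻¹) * (t * (t * u * t⁻¹) * t⁻¹) := by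
    intro u hu hb
    nth_rewrite 1 [hb]
    rw [conj_mul]
  have huC1 : ∀ {u : G}, u ∈ C → t * u * t⁻¹ ∈ C := fun hu => mul_mem (mul_mem htC hu) (inv_mem htC)
  have eshift : ∀ {u : G} (hu : u ∈ C), M.ptA ⟨t * u * t⁻¹, huC1 hu⟩ = τ * M.ptA ⟨u, hu⟩ * τ⁻¹ := by
    intro u hu
    rw [hτ, ← map_inv, ← map_mul, ← map_mul]; rfl
  have hperm : ∀ ν : alternatingGroup (Fin 5), ν ≠ 1 → τ * ν * τ⁻¹ ≠ ν →
      ν * (τ * ν * τ⁻¹) = τ * ν * τ⁻¹ * ν →
      τ * ν * τ⁻¹ ≠ 1 ∧ τ * (τ * ν * τ⁻¹) * τ⁻¹ ≠ τ * ν * τ⁻¹ ∧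
      τ * ν * τ⁻¹ * (τ * (τ * ν * τ⁻¹) * τ⁻¹) = τ * (τ * ν * τ⁻¹) * τ⁻¹ * (τ * ν * τ⁻¹) := by
    intro ν h1 h2 h3
    exact ⟨fun e => h1 (conj_eq_one_iff.1 e), fun e => h2 (mul_left_cancel (mul_right_cancel e)),
      comm_conj h3⟩
  rcases a5_some_three τ hτ3 hτ1 μ hμ2 hμ1 hne hcom ω hω2 hωτ with e | e | e
  · exact ⟨u0, hu0R, hu01, hzu0, hb0, key u0 hu0R hu0C hμ1 hne hcom e (hut u0 hu0R hb0)⟩
  · obtain ⟨n1, n2, n3⟩ := hperm μ hμ1 hne hcom
    refine ⟨a0, ha0R, fun e1 => hu01 (conj_eq_one_iff.1 e1),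
      (mem_cent_iff.1 (huC1 hu0C)).symm, step u0 hu0R hb0, key a0 ha0R (huC1 hu0C) ?_ ?_ ?_ ?_
      (hut a0 ha0R (step u0 hu0R hb0))⟩ <;> rw [eshift hu0C]
    exacts [n1, n2, n3, e]
  · obtain ⟨n1, n2, n3⟩ := hperm μ hμ1 hne hcom
    obtain ⟨o1, o2, o3⟩ := hperm _ n1 n2 n3
    refine ⟨b0, F.conjR F.tR ha0R, fun e1 => hu01 (conj_eq_one_iff.1 (conj_eq_one_iff.1 e1)),
      (mem_cent_iff.1 (huC1 (huC1 hu0C))).symm, step a0 ha0R (step u0 hu0R hb0), key b0 (F.conjR F.tR ha0R) (huC1 (huC1 hu0C)) ?_ ?_ ?_ ?_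
      (hut b0 (F.conjR F.tR ha0R) (step a0 ha0R (step u0 hu0R hb0)))⟩ <;> rw [eshift (huC1 hu0C), eshift hu0C]
    exacts [o1, o2, o3, e]

/-- The braid relation between a point of `R` and `z * s`. -/
theorem Frame.relation [Finite G] (F : Frame z R v t s) (h : Core z Q) :
    ∃ u ∈ R, u ≠ 1 ∧ (z * s) * u * (z * s) = u * (z * s) * u := by
  obtain ⟨u, huR, hu1, -, -, hb⟩ := F.relation_fix h
  exact ⟨u, huR, hu1, hb⟩

end Cfsg.Agent.Invol.J3Type.LTwoSixteen
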